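import Groth.Agent.CubeLib.Clopen
import Groth.Agent.H0Lib.Main

/-!
The cube theorem over a field, with one factor only geometrically reduced and connected.
-/

set_option autoImplicit false
set_option maxRecDepth 8000
set_option maxHeartbeats 1000000

noncomputable section

universe u

open CategoryTheory CategoryTheory.Limits AlgebraicGeometry TopologicalSpace Opposite

namespace CubeLib

theorem univO_of_geometrically {X S : Scheme.{u}} (f : X ⟶ S) [IsProper f] [Flat f]
    [LocallyOfFinitePresentation f] [GeometricallyConnected f] [GeometricallyReduced f] : UnivO f :=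
  univO_of_app fun T t U => by
    have : IsProper (pullback.snd f t) := MorphismProperty.pullback_snd _ _ ‹_›
    have : Flat (pullback.snd f t) := MorphismProperty.pullback_snd _ _ ‹_›
    have : LocallyOfFinitePresentation (pullback.snd f t) := MorphismProperty.pullback_snd _ _ ‹_›
    rw [ConcreteCategory.isIso_iff_bijective]
    exact H0Lib.bijective_app_of_geometrically (pullback.snd f t) U

/-- A rational point has the residue field of the base. -/
theorem fromSpecResidueField_section {Z S : Scheme.{u}} (q : Z ⟶ S) (z : S ⟶ Z) (hz : z ≫ q = 𝟙 S) (o : S) :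
    Z.fromSpecResidueField (z o) = Z.fromSpecResidueField (z o) ≫ q ≫ z := by
  have : IsIso ((z ≫ q).residueFieldMap o) := by
    have key : ∀ m : S ⟶ S, m = 𝟙 S → IsIso (m.residueFieldMap o) := fun m hm => by subst hm; infer_instance
    exact key _ hz
  have hb : Function.Bijective (z.residueFieldMap o) := by
    refine ⟨(z.residueFieldMap o).hom.injective, fun b => ?_⟩
    obtain ⟨a, ha⟩ := (ConcreteCategory.bijective_of_isIso ((z ≫ q).residueFieldMap o)).2 b
    rw [Scheme.residueFieldMap_comp] at ha
    exact ⟨q.residueFieldMap (z o) a, ha⟩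
  have : IsIso (z.residueFieldMap o) := (ConcreteCategory.isIso_iff_bijective _).2 hb
  rw [← cancel_epi (Spec.map (z.residueFieldMap o)), Scheme.Hom.SpecMap_residueFieldMap_fromSpecResidueField,
    ← Category.assoc (Spec.map (z.residueFieldMap o)), Scheme.Hom.SpecMap_residueFieldMap_fromSpecResidueField,
    Category.assoc, reassoc_of% hz]

variable {k : Type u} [Field k] {X Y Z : Scheme.{u}}
  (pX : X ⟶ Spec (CommRingCat.of k)) (pY : Y ⟶ Spec (CommRingCat.of k)) (pZ : Z ⟶ Spec (CommRingCat.of k))
  [IsProper pX] [GeometricallyIntegral pX] [IsProper pY] [GeometricallyReduced pY] [GeometricallyConnected pY]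
  [LocallyOfFiniteType pZ] [QuasiCompact pZ] [GeometricallyIntegral pZ]
  (x : Spec (CommRingCat.of k) ⟶ X) (hx : x ≫ pX = 𝟙 _)
  (y : Spec (CommRingCat.of k) ⟶ Y) (hy : y ≫ pY = 𝟙 _)
  (z : Spec (CommRingCat.of k) ⟶ Z) (hz : z ≫ pZ = 𝟙 _)

include hx hy hz in
theorem cube_field {L : (pullback pX (pullback.fst pY pZ ≫ pY)).Modules} (hL : PicF.IsInvertible L)
    (wx : ((pullback.fst pY pZ ≫ pY) ≫ x) ≫ pX = 𝟙 _ ≫ pullback.fst pY pZ ≫ pY)
    (hmx : Nonempty ((Scheme.Modules.pullback (pullback.lift ((pullback.fst pY pZ ≫ pY) ≫ x) (𝟙 _) wx)).obj L ≅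
      Coh.structureModule _))
    (wy' : ((pullback.fst pX pZ ≫ pX) ≫ y) ≫ pY = pullback.snd pX pZ ≫ pZ)
    (wy : pullback.fst pX pZ ≫ pX =
      pullback.lift ((pullback.fst pX pZ ≫ pX) ≫ y) (pullback.snd pX pZ) wy' ≫ pullback.fst pY pZ ≫ pY)
    (hmy : Nonempty ((Scheme.Modules.pullback (pullback.lift (pullback.fst pX pZ)
      (pullback.lift ((pullback.fst pX pZ ≫ pX) ≫ y) (pullback.snd pX pZ) wy') wy)).obj L ≅ Coh.structureModule _))
    (wz' : pullback.snd pX pY ≫ pY = ((pullback.fst pX pY ≫ pX) ≫ z) ≫ pZ)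
    (wz : pullback.fst pX pY ≫ pX =
      pullback.lift (pullback.snd pX pY) ((pullback.fst pX pY ≫ pX) ≫ z) wz' ≫ pullback.fst pY pZ ≫ pY)
    (hmz : Nonempty ((Scheme.Modules.pullback (pullback.lift (pullback.fst pX pY)
      (pullback.lift (pullback.snd pX pY) ((pullback.fst pX pY ≫ pX) ≫ z) wz') wz)).obj L ≅ Coh.structureModule _)) :
    Nonempty (L ≅ Coh.structureModule _) := by
  have : LocallyOfFinitePresentation pX := LocallyOfFinitePresentation.iff_locallyOfFiniteType.2 inferInstance
  have : LocallyOfFinitePresentation pY := LocallyOfFinitePresentation.iff_locallyOfFiniteType.2 inferInstance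
  have : LocallyOfFinitePresentation pZ := LocallyOfFinitePresentation.iff_locallyOfFiniteType.2 inferInstance
  have : Flat pX := inferInstance
  have : Flat pY := inferInstance
  have : Flat pZ := inferInstance
  let f := pullback.snd pX pZ
  let g := pullback.snd pY pZ
  have : IsProper f := MorphismProperty.pullback_snd _ _ ‹_›
  have : IsProper g := MorphismProperty.pullback_snd _ _ ‹_›
  have : Flat f := MorphismProperty.pullback_snd _ _ ‹_›
  have : Flat g := MorphismProperty.pullback_snd _ _ ‹_›
  have : LocallyOfFinitePresentation f := MorphismProperty.pullback_snd _ _ ‹_›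
  have : LocallyOfFinitePresentation g := MorphismProperty.pullback_snd _ _ ‹_›
  have hf : UnivO f := univO_of_geometricallyIntegral f
  have hg : UnivO g := univO_of_geometrically g
  let σ : Z ⟶ pullback pX pZ :=
    pullback.lift (pZ ≫ x) (𝟙 Z) (by rw [Category.assoc, hx, Category.comp_id, Category.id_comp])
  let τ : Z ⟶ pullback pY pZ :=
    pullback.lift (pZ ≫ y) (𝟙 Z) (by rw [Category.assoc, hy, Category.comp_id, Category.id_comp])
  have hσ : σ ≫ f = 𝟙 Z := pullback.lift_snd _ _ _
  have hτ : τ ≫ g = 𝟙 Z := pullback.lift_snd _ _ _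
  let gP : pullback f g ⟶ pullback pX (pullback.fst pY pZ ≫ pY) :=
    pullback.lift (pullback.fst f g ≫ pullback.fst pX pZ) (pullback.snd f g) (by
      rw [Category.assoc, pullback.condition, pullback.condition (f := pY) (g := pZ), ← Category.assoc, ← Category.assoc]
      exact congrArg (· ≫ pZ) pullback.condition)
  let u : pullback pX pZ ⟶ pullback f g :=
    pullback.lift (𝟙 _) (f ≫ τ) (by rw [Category.assoc, hτ, Category.comp_id, Category.id_comp])
  let v : pullback pY pZ ⟶ pullback f g :=
    pullback.lift (g ≫ σ) (𝟙 _) (by rw [Category.assoc, hσ, Category.comp_id, Category.id_comp])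
  have eu : u ≫ gP = 𝟙 _ ≫ pullback.lift (pullback.fst pX pZ)
      (pullback.lift ((pullback.fst pX pZ ≫ pX) ≫ y) (pullback.snd pX pZ) wy') wy := by
    rw [Category.id_comp]
    apply pullback.hom_ext
    · rw [Category.assoc, pullback.lift_fst, pullback.lift_fst_assoc, Category.id_comp, pullback.lift_fst]
    · rw [Category.assoc, pullback.lift_snd, pullback.lift_snd, pullback.lift_snd]
      apply pullback.hom_ext
      · rw [Category.assoc, pullback.lift_fst, pullback.lift_fst, pullback.condition, ← Category.assoc]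
      · rw [Category.assoc, pullback.lift_snd, Category.comp_id, pullback.lift_snd]
  have ev : v ≫ gP = 𝟙 _ ≫ pullback.lift ((pullback.fst pY pZ ≫ pY) ≫ x) (𝟙 _) wx := by
    rw [Category.id_comp]
    apply pullback.hom_ext
    · rw [Category.assoc, pullback.lift_fst, pullback.lift_fst_assoc, Category.assoc, pullback.lift_fst,
        pullback.lift_fst, pullback.condition, ← Category.assoc]
    · rw [Category.assoc, pullback.lift_snd, pullback.lift_snd, pullback.lift_snd]
  let o : Spec (CommRingCat.of k) := IsLocalRing.closedPoint k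
  let p' := pullback.fst f g ≫ f
  let c : p'.fiber (z o) ⟶ pullback pX pY :=
    p'.fiberι (z o) ≫ pullback.lift (pullback.fst f g ≫ pullback.fst pX pZ) (pullback.snd f g ≫ pullback.fst pY pZ) (by
      rw [Category.assoc, Category.assoc, pullback.condition, pullback.condition (f := pY) (g := pZ),
        ← Category.assoc, ← Category.assoc]
      exact congrArg (· ≫ pZ) pullback.condition)
  have ec : p'.fiberι (z o) ≫ gP = c ≫ pullback.lift (pullback.fst pX pY)
      (pullback.lift (pullback.snd pX pY) ((pullback.fst pX pY ≫ pX) ≫ z) wz') wz := by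
    apply pullback.hom_ext
    · rw [Category.assoc, Category.assoc, pullback.lift_fst, pullback.lift_fst, Category.assoc, pullback.lift_fst]
    · rw [Category.assoc, Category.assoc, pullback.lift_snd, pullback.lift_snd]
      apply pullback.hom_ext
      · rw [Category.assoc, Category.assoc, pullback.lift_fst, Category.assoc, pullback.lift_snd]
      · have e1 : p'.fiberι (z o) ≫ p' ≫ pZ ≫ z = p'.fiberι (z o) ≫ p' := by
          rw [← Category.assoc, p'.fiber_fac, Category.assoc, ← fromSpecResidueField_section pZ z hz o]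
        rw [Category.assoc, Category.assoc, pullback.lift_snd]
        simp only [c, Category.assoc, pullback.lift_fst_assoc]
        rw [pullback.condition_assoc (f := pX) (g := pZ), ← Category.assoc (pullback.fst f g) (pullback.snd pX pZ),
          e1, ← pullback.condition]
  obtain ⟨U, hzU, hU⟩ := trivial_near_point f g hf hg σ hσ τ hτ (z o) (AmpleDevLib.isInvertible_pb gP hL) u
    (pullback.lift_fst _ _ _) (pullback.lift_snd _ _ _) v (pullback.lift_fst _ _ _) (pullback.lift_snd _ _ _)
    (trivial_of_comp_eq eu hmy) (trivial_of_comp_eq ev hmx) (trivial_of_comp_eq ec hmz)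
  let qY := pullback.fst pY pZ ≫ pY
  let q := pullback.snd pX qY
  have : IsProper q := MorphismProperty.pullback_snd _ _ ‹_›
  have : Flat q := MorphismProperty.pullback_snd _ _ ‹_›
  have : LocallyOfFinitePresentation q := MorphismProperty.pullback_snd _ _ ‹_›
  have : GeometricallyIntegral q := inferInstance
  let M := MiscFlat6.dual L
  have hM : PicF.IsInvertible M := MiscFlat6.dual_isInvertible hL
  obtain ⟨e⟩ := MiscFlat6.nonempty_dualIso hL
  obtain ⟨_, hfpL, hflL⟩ := CohCmpLib.rank_one_hyps q ((CohCmpLib.invertible_iff_rank_one L).1 hL)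
  obtain ⟨_, hfpM, hflM⟩ := CohCmpLib.rank_one_hyps q ((CohCmpLib.invertible_iff_rank_one M).1 hM)
  let A : Set (pullback pY pZ : Scheme.{u}) :=
    {w | Nontrivial (CohIII.fiberH q L w 0)} ∩ {w | Nontrivial (CohIII.fiberH q M w 0)}
  have hA : IsClosed A := (CohCmpLib.isClosed_nontrivial_fiberH q hfpL hflL 0).inter
    (CohCmpLib.isClosed_nontrivial_fiberH q hfpM hflM 0)
  let ψ : pullback pX qY ⟶ pullback f g := pullback.lift
    (pullback.lift (pullback.fst pX qY) (q ≫ g) (by
      rw [pullback.condition, Category.assoc, ← pullback.condition (f := pY) (g := pZ)]))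
    q (pullback.lift_snd _ _ _)
  have hψ : ψ ≫ gP = 𝟙 _ := by
    apply pullback.hom_ext
    · rw [Category.assoc, pullback.lift_fst, pullback.lift_fst_assoc, pullback.lift_fst, Category.id_comp]
    · rw [Category.assoc, pullback.lift_snd, pullback.lift_snd, Category.id_comp]
  have hψ' : ψ ≫ p' = q ≫ g := by rw [pullback.lift_fst_assoc, pullback.lift_snd]
  have htriv : ∀ w : (pullback pY pZ : Scheme.{u}), g w ∈ U →
      Nonempty (CohIII.fiberMod q L w ≅ Coh.structureModule (q.fiber w)) := fun w hw => by
    have hr : Set.range (q.fiberι w ≫ ψ) ⊆ Set.range (p' ⁻¹ᵁ U).ι := by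
      rw [Scheme.Opens.range_ι]
      rintro _ ⟨a, rfl⟩
      show p' ((q.fiberι w ≫ ψ) a) ∈ U
      rw [← Scheme.Hom.comp_apply, Category.assoc, hψ', Scheme.Hom.comp_apply, Scheme.Hom.comp_apply]
      have : q (q.fiberι w a) = w := (q.range_fiberι w).le ⟨a, rfl⟩
      rwa [this]
    have hl := IsOpenImmersion.lift_fac (p' ⁻¹ᵁ U).ι (q.fiberι w ≫ ψ) hr
    obtain ⟨t⟩ := trivial_of_comp_eq hl.symm
      (L := (Scheme.Modules.pullback gP).obj L) ⟨((Scheme.Modules.restrictFunctorIsoPullback _).app _).symm ≪≫ hU.some⟩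
    exact ⟨(Scheme.Modules.pullback (q.fiberι w)).mapIso (((Scheme.Modules.pullbackId _).app L).symm ≪≫
      (Scheme.Modules.pullbackCongr hψ.symm).app L ≪≫ ((Scheme.Modules.pullbackComp ψ gP).app L).symm) ≪≫ t⟩
  have hsub : g ⁻¹' (U : Set Z) ⊆ A := fun w hw => by
    have hw' := htriv w hw
    refine ⟨CohCmpLib.nontrivial_of_trivial q hw', CohCmpLib.nontrivial_of_trivial q ?_⟩
    obtain ⟨t⟩ := hw'
    obtain ⟨e'⟩ := CohCmpLib.nonempty_pullback_inverse (q.fiberι w) e
    exact ⟨(HilbPolyLib.unitLeft _).symm ≪≫ HilbPolyLib.congrLeft t.symm _ ≪≫ e'⟩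
  have : UniversallyOpen g := inferInstance
  have : IrreducibleSpace Z := GeometricallyIrreducible.irreducibleSpace_of_subsingleton pZ
  have hden : Dense (g ⁻¹' (U : Set Z)) := (U.2.dense ⟨_, hzU⟩).preimage g.isOpenMap
  have hall : ∀ w, w ∈ A := fun w => hA.closure_subset (closure_mono hsub (hden w))
  have : IsReduced Z := GeometricallyReduced.isReduced_of_flat_of_isLocallyNoetherian pZ
  have : IsLocallyNoetherian Z := LocallyOfFiniteType.isLocallyNoetherian pZ
  have : IsReduced (pullback pY pZ) := GeometricallyReduced.isReduced_of_flat_of_isLocallyNoetherian (pullback.snd pY pZ)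
  obtain ⟨hP, hc⟩ := CohCmpLib.counit_of_trivial_reduced q (CohCmpLib.finrank_global_of_geometricallyIntegral q)
    ((CohCmpLib.invertible_iff_rank_one L).1 hL)
    fun w => CohCmpLib.trivial_of_sections q hL e w (hall w).1 (hall w).2
  let N := (Scheme.Modules.pushforward q).obj L
  let eL : (Scheme.Modules.pullback q).obj N ≅ L :=
    @asIso _ _ _ _ ((Scheme.Modules.pullbackPushforwardAdjunction q).counit.app L) hc
  let m := pullback.lift ((pullback.fst pY pZ ≫ pY) ≫ x) (𝟙 _) wx
  have hm : m ≫ q = 𝟙 _ := pullback.lift_snd _ _ _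
  obtain ⟨t⟩ := hmx
  let eN : N ≅ Coh.structureModule _ := ((Scheme.Modules.pullbackId _).app N).symm ≪≫
    (Scheme.Modules.pullbackCongr hm.symm).app N ≪≫ ((Scheme.Modules.pullbackComp m q).app N).symm ≪≫
    (Scheme.Modules.pullback m).mapIso eL ≪≫ t
  exact ⟨eL.symm ≪≫ (Scheme.Modules.pullback q).mapIso eN ≪≫ KFlatLib.pullUnitIso q⟩

end CubeLib
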