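import Groth.Agent.CubeLib.Reduce
import Groth.Agent.CohCmpLib.FamilyPic2
import Groth.Agent.MiscFlat6.InvDual

/-!
The cube argument: the clopen locus of triviality.
-/

set_option autoImplicit false
set_option maxRecDepth 8000
set_option maxHeartbeats 1000000

noncomputable section

universe u

open CategoryTheory CategoryTheory.Limits AlgebraicGeometry TopologicalSpace Opposite
open AmpleLib (GenOn GenAt res)
open KFlatLib (pb puSec puSecLE)

namespace CubeLib

variable {X Y S T : Scheme.{u}}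

theorem univO_of_finrank (f : X ⟶ S) [IsProper f] [Flat f] [LocallyOfFinitePresentation f]
    (h0 : ∀ s : S, Module.finrank (S.residueField s) Γ(f.fiber s, ⊤) = 1) : UnivO f :=
  fun _ _ g' f' t H U => by
    have := (CohCmpLib.isIso_unitToPush f h0).2.2 H
    exact CohCmpLib.isIso_app_of_unitToPush f' U

theorem univO_of_geometricallyIntegral (f : X ⟶ S) [IsProper f] [Flat f] [LocallyOfFinitePresentation f]
    [GeometricallyIntegral f] : UnivO f :=
  univO_of_finrank f (CohCmpLib.finrank_global_of_geometricallyIntegral f)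

/-- The product of base changes. -/
theorem isPullback_prod (f : X ⟶ S) (g : Y ⟶ S) (t : T ⟶ S)
    (w : (pullback.fst (pullback.snd f t) (pullback.snd g t) ≫ pullback.fst f t) ≫ f =
      (pullback.snd (pullback.snd f t) (pullback.snd g t) ≫ pullback.fst g t) ≫ g) :
    IsPullback (pullback.lift _ _ w) (pullback.fst (pullback.snd f t) (pullback.snd g t) ≫ pullback.snd f t)
      (pullback.fst f g ≫ f) t := by
  have hA : IsPullback (pullback.lift _ _ w) (pullback.fst (pullback.snd f t) (pullback.snd g t))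
      (pullback.fst f g) (pullback.fst f t) := by
    refine IsPullback.of_right ?_ (pullback.lift_fst _ _ _) (IsPullback.of_hasPullback f g).flip
    rw [pullback.lift_snd, pullback.condition]
    exact (IsPullback.of_hasPullback _ _).flip.paste_horiz (IsPullback.of_hasPullback g t)
  exact hA.paste_vert (IsPullback.of_hasPullback f t)

/-- Fibres of a product of geometrically integral families are integral. -/
theorem isIntegral_fibre_comp (f : X ⟶ S) (g : Y ⟶ S) [Flat f] [LocallyOfFinitePresentation f]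
    [GeometricallyIntegral f] [Flat g] [LocallyOfFinitePresentation g] [GeometricallyIntegral g] (y : S) :
    IsIntegral ((pullback.fst f g ≫ f).fiber y) := by
  have : LocallyOfFiniteType f := inferInstance
  have : LocallyOfFiniteType (f.fiberToSpecResidueField y) := MorphismProperty.pullback_snd _ _ ‹_›
  have hln : IsLocallyNoetherian (f.fiber y) :=
    LocallyOfFiniteType.isLocallyNoetherian (f.fiberToSpecResidueField y)
  let P := pullback (pullback.fst f g) (f.fiberι y)
  have hP : IsIntegral P := inferInstance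
  have H : IsPullback (pullback.fst (pullback.fst f g) (f.fiberι y))
      (pullback.snd (pullback.fst f g) (f.fiberι y) ≫ f.fiberToSpecResidueField y)
      (pullback.fst f g ≫ f) (S.fromSpecResidueField y) :=
    (IsPullback.of_hasPullback _ _).paste_vert (IsPullback.of_hasPullback f _)
  have : Nonempty ((pullback.fst f g ≫ f).fiber y) := ⟨H.isoPullback.hom (Nonempty.some inferInstance)⟩
  exact isIntegral_of_isOpenImmersion H.isoPullback.inv

theorem exists_genOn_of_restrict {M : X.Modules} {U : X.Opens}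
    (h : Nonempty (M.restrict U.ι ≅ Coh.structureModule U.toScheme)) : ∃ e : Γ(M, U), GenOn M e := by
  obtain ⟨i⟩ := h
  let U' := U.ι ''ᵁ (⊤ : U.toScheme.Opens)
  have hUU' : U ≤ U' := (Scheme.Opens.ι_image_top U).ge
  let e : Γ(M, U') := i.inv.app ⊤ (1 : Γ(U.toScheme, ⊤))
  refine ⟨res M hUU' e, GenOn.res (fun V hV => ?_) hUU'⟩
  have hVU : V ≤ U := hV.trans (by simp only [U', Scheme.Opens.ι_image_top, le_refl])
  obtain ⟨W, rfl⟩ : ∃ W : U.toScheme.Opens, U.ι ''ᵁ W = V := ⟨U.ι ⁻¹ᵁ V, by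
    rw [Scheme.Hom.image_preimage_eq_opensRange_inf, Scheme.Opens.opensRange_ι]
    exact inf_eq_right.mpr hVU⟩
  have key : ∀ r : Γ(U.toScheme, W),
      i.inv.app W r = (show Γ(X, U.ι ''ᵁ W) from (U.ι.appIso W).inv r) • res M hV e := by
    intro r
    have h1 : (r : Γ(Coh.structureModule U.toScheme, W)) =
        r • ((Coh.structureModule U.toScheme).presheaf.map (homOfLE (le_top : W ≤ ⊤)).op
          (1 : Γ(U.toScheme, ⊤))) := by
      refine Eq.trans ?_ (congrArg (r • ·) (map_one (U.toScheme.presheaf.map (homOfLE (le_top : W ≤ ⊤)).op).hom).symm)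
      exact (mul_one r).symm
    refine ((congrArg (i.inv.app W) h1).trans (Scheme.Modules.Hom.app_smul i.inv r _)).trans ?_
    refine congrArg (fun t : Γ(M, U.ι ''ᵁ W) => (show Γ(X, U.ι ''ᵁ W) from (U.ι.appIso W).inv r) • t) ?_
    exact NatTrans.naturality_apply i.inv.mapPresheaf (homOfLE (le_top : W ≤ ⊤)).op (1 : Γ(U.toScheme, ⊤))
  have hb := (ConcreteCategory.bijective_of_isIso (i.inv.app W)).comp
    (ConcreteCategory.bijective_of_isIso (U.ι.appIso W).hom)
  have e' : (⇑(i.inv.app W) ∘ ⇑(U.ι.appIso W).hom) = fun r : Γ(X, U.ι ''ᵁ W) => r • res M hV e :=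
    funext fun r => by
      refine (key _).trans ?_
      rw [← CommRingCat.comp_apply, Iso.hom_inv_id]
      rfl
  exact e' ▸ hb

/-- A trivialisation over an open of the base trivialises the fibres there. -/
theorem fibre_trivial_of_restrict (p : X ⟶ S) {L : X.Modules} {U : S.Opens}
    (h : Nonempty (L.restrict (p ⁻¹ᵁ U).ι ≅ Coh.structureModule (p ⁻¹ᵁ U).toScheme)) {z : S} (hz : z ∈ U) :
    Nonempty ((Scheme.Modules.pullback (p.fiberι z)).obj L ≅ Coh.structureModule (p.fiber z)) := by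
  have hr : Set.range (p.fiberι z) ⊆ Set.range (p ⁻¹ᵁ U).ι := by
    rw [p.range_fiberι, Scheme.Opens.range_ι]
    rintro x (rfl : p x = z)
    exact hz
  have hl := IsOpenImmersion.lift_fac (p ⁻¹ᵁ U).ι (p.fiberι z) hr
  obtain ⟨k⟩ := trivial_pullback (g := IsOpenImmersion.lift (p ⁻¹ᵁ U).ι (p.fiberι z) hr)
    (L := (Scheme.Modules.pullback (p ⁻¹ᵁ U).ι).obj L)
    ⟨((Scheme.Modules.restrictFunctorIsoPullback _).app L).symm ≪≫ h.some⟩
  exact ⟨(Scheme.Modules.pullbackCongr hl.symm).app L ≪≫ ((Scheme.Modules.pullbackComp _ _).app L).symm ≪≫ k⟩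

/-- **The cube theorem over an arbitrary base**. -/
theorem exists_clopen (f : X ⟶ S) (g : Y ⟶ S) [Flat f] [IsProper f] [LocallyOfFinitePresentation f]
    [GeometricallyIntegral f] [Flat g] [IsProper g] [LocallyOfFinitePresentation g] [GeometricallyIntegral g]
    (σ : S ⟶ X) (hσ : σ ≫ f = 𝟙 S) (τ : S ⟶ Y) (hτ : τ ≫ g = 𝟙 S)
    {L : (pullback f g).Modules} (hL : PicF.IsInvertible L)
    (u : X ⟶ pullback f g) (hu1 : u ≫ pullback.fst f g = 𝟙 X) (hu2 : u ≫ pullback.snd f g = f ≫ τ)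
    (v : Y ⟶ pullback f g) (hv1 : v ≫ pullback.fst f g = g ≫ σ) (hv2 : v ≫ pullback.snd f g = 𝟙 Y)
    (h1 : Nonempty ((Scheme.Modules.pullback u).obj L ≅ Coh.structureModule X))
    (h2 : Nonempty ((Scheme.Modules.pullback v).obj L ≅ Coh.structureModule Y))
    (z : S) (h3 : Nonempty ((Scheme.Modules.pullback ((pullback.fst f g ≫ f).fiberι z)).obj L ≅
      Coh.structureModule ((pullback.fst f g ≫ f).fiber z))) :
    ∃ W : S.Opens, IsClosed (W : Set S) ∧ z ∈ W ∧
      Nonempty ((Scheme.Modules.pullback ((pullback.fst f g ≫ f) ⁻¹ᵁ W).ι).obj L ≅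
        Coh.structureModule ((pullback.fst f g ≫ f) ⁻¹ᵁ W).toScheme) := by
  classical
  let p := pullback.fst f g ≫ f
  have hf := univO_of_geometricallyIntegral f
  have hg := univO_of_geometricallyIntegral g
  have hp : UnivO p := univO_fst_comp f g hf hg
  have : IsProper p := inferInstance
  have : Flat p := inferInstance
  have : LocallyOfFinitePresentation p := inferInstance
  have hint : ∀ y, IsIntegral (p.fiber y) := isIntegral_fibre_comp f g
  let M := MiscFlat6.dual L
  have hM : PicF.IsInvertible M := MiscFlat6.dual_isInvertible hL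
  obtain ⟨e⟩ := MiscFlat6.nonempty_dualIso hL
  obtain ⟨_, hfpL, hflL⟩ := CohCmpLib.rank_one_hyps p ((CohCmpLib.invertible_iff_rank_one L).1 hL)
  obtain ⟨_, hfpM, hflM⟩ := CohCmpLib.rank_one_hyps p ((CohCmpLib.invertible_iff_rank_one M).1 hM)
  let Wset : Set S := {y | Nonempty (CohIII.fiberMod p L y ≅ Coh.structureModule (p.fiber y))}
  have hnear : ∀ y ∈ Wset, ∃ U : S.Opens, y ∈ U ∧
      Nonempty (L.restrict (p ⁻¹ᵁ U).ι ≅ Coh.structureModule (p ⁻¹ᵁ U).toScheme) :=
    fun y hy => trivial_near_point f g hf hg σ hσ τ hτ y hL u hu1 hu2 v hv1 hv2 h1 h2 hy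
  have hopen : IsOpen Wset := isOpen_iff_forall_mem_open.2 fun y hy => by
    obtain ⟨U, hyU, hU⟩ := hnear y hy
    exact ⟨U, fun y' hy' => fibre_trivial_of_restrict p hU hy', U.2, hyU⟩
  have hclosed : IsClosed Wset := by
    have heq : Wset = {y | Nontrivial (CohIII.fiberH p L y 0)} ∩ {y | Nontrivial (CohIII.fiberH p M y 0)} := by
      refine Set.ext fun y => ⟨fun hy => ⟨CohCmpLib.nontrivial_of_trivial p hy,
        CohCmpLib.nontrivial_of_trivial p ?_⟩, fun hy => CohCmpLib.trivial_of_sections p hL e y hy.1 hy.2⟩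
      obtain ⟨t⟩ := hy
      obtain ⟨e'⟩ := CohCmpLib.nonempty_pullback_inverse (p.fiberι y) e
      exact ⟨(HilbPolyLib.unitLeft _).symm ≪≫ HilbPolyLib.congrLeft t.symm _ ≪≫ e'⟩
    rw [heq]
    exact (CohCmpLib.isClosed_nontrivial_fiberH p hfpL hflL 0).inter
      (CohCmpLib.isClosed_nontrivial_fiberH p hfpM hflM 0)
  let W : S.Opens := ⟨Wset, hopen⟩
  refine ⟨W, hclosed, h3, ?_⟩
  let s₀ : S ⟶ pullback f g := σ ≫ u
  have hs₀ : s₀ ≫ p = 𝟙 S := by
    rw [Category.assoc, ← Category.assoc u, hu1, Category.id_comp, hσ]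
  have hr : Set.range (W.ι ≫ s₀) ⊆ Set.range (p ⁻¹ᵁ W).ι := by
    rw [Scheme.Opens.range_ι]
    rintro _ ⟨x, rfl⟩
    show p ((W.ι ≫ s₀) x) ∈ W
    rw [← Scheme.Hom.comp_apply, Category.assoc, hs₀, Category.comp_id]
    exact x.2
  let sW : W.toScheme ⟶ (p ⁻¹ᵁ W).toScheme := IsOpenImmersion.lift (p ⁻¹ᵁ W).ι (W.ι ≫ s₀) hr
  have hsW : sW ≫ (p ⁻¹ᵁ W).ι = W.ι ≫ s₀ := IsOpenImmersion.lift_fac _ _ hr
  have hsec : sW ≫ (p ∣_ W) = 𝟙 _ := by
    rw [← cancel_mono W.ι, Category.assoc, morphismRestrict_ι, ← Category.assoc, hsW, Category.assoc, hs₀,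
      Category.comp_id, Category.id_comp]
  have hpW : UnivO (p ∣_ W) := hp.of_isPullback (isPullback_morphismRestrict p W).flip
  choose U hyU hU using hnear
  choose γ hγ using fun y hy => exists_genOn_of_restrict (hU y hy)
  have hle : ∀ x : W.toScheme, (p ∣_ W) ⁻¹ᵁ (W.ι ⁻¹ᵁ U x.1 x.2) ≤ (p ⁻¹ᵁ W).ι ⁻¹ᵁ (p ⁻¹ᵁ U x.1 x.2) := fun x => by
    rw [← Scheme.Hom.comp_preimage, ← Scheme.Hom.comp_preimage, morphismRestrict_ι]
  exact trivial_of_local_of_section (p ∣_ W) hpW sW hsec
    (trivial_of_comp_eq (hsW.trans (Category.assoc W.ι σ u).symm) h1)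
    (fun x : W.toScheme => W.ι ⁻¹ᵁ U x.1 x.2) (fun x => ⟨x, hyU x.1 x.2⟩)
    (fun x => puSecLE (p ⁻¹ᵁ W).ι L (hle x) (γ x.1 x.2))
    (fun x => genOn_puSecLE _ (hγ x.1 x.2) (hle x))

end CubeLib
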