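import Groth.Agent.CubeLib.UnivO

/-!
Line bundles trivial locally on the base and along a section are trivial.
-/

set_option autoImplicit false
set_option maxRecDepth 8000

noncomputable section

universe u

open CategoryTheory CategoryTheory.Limits AlgebraicGeometry TopologicalSpace Opposite
open AmpleLib (GenOn GenAt res)
open KFlatLib (pb puSec puSecLE)

namespace CubeLib

variable {X P : Scheme.{u}}

theorem exists_genOn_top {L : X.Modules} (h : Nonempty (L ≅ Coh.structureModule X)) :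
    ∃ e : Γ(L, (⊤ : X.Opens)), GenOn L e := by
  obtain ⟨t⟩ := h
  refine ⟨t.inv.app ⊤ (show Γ(Coh.structureModule X, ⊤) from (1 : Γ(X, ⊤))), fun V hV => ?_⟩
  have h1 : ∀ r : Γ(X, V), r • res L hV (t.inv.app ⊤ (show Γ(Coh.structureModule X, ⊤) from (1 : Γ(X, ⊤)))) =
      t.inv.app V (show Γ(Coh.structureModule X, V) from r) := fun r => by
    refine Eq.trans ?_ (congrArg (t.inv.app V) (show (r • res (Coh.structureModule X) hV
      (show Γ(Coh.structureModule X, ⊤) from (1 : Γ(X, ⊤)))) = r from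
        ((congrArg (r * ·) (map_one (X.presheaf.map (homOfLE hV).op).hom)).trans (mul_one r))))
    rw [QCohLib.app_smul]
    exact congrArg (r • ·) (QCohLib.app_map t.inv (homOfLE hV) _).symm
  simp only [h1]
  exact ConcreteCategory.bijective_of_isIso (t.inv.app V)

theorem genOn_puSecLE (g : P ⟶ X) {L : X.Modules} {U : X.Opens} {e : Γ(L, U)} (he : GenOn L e) {V : P.Opens}
    (h : V ≤ g ⁻¹ᵁ U) : GenOn (pb g L) (puSecLE g L h e) :=
  TwistLib.genOn_of_genAt fun z hz => by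
    rw [KFlatLib.puSecLE_apply]
    exact (AmpleLib.genAt_res h (puSec g e) hz).2 (TwistLib.GenAt.puSec g (he.genAt (h hz)))

theorem isUnit_of_genOn {L : X.Modules} {U : X.Opens} {e : Γ(L, U)} (he : GenOn L e) {a : Γ(X, U)}
    (ha : GenOn L (a • e)) : IsUnit a := by
  obtain ⟨b, hb⟩ := (ha U le_rfl).2 e
  refine isUnit_iff_exists_inv'.2 ⟨b, (he U le_rfl).1 ?_⟩
  simp only [AmpleLib.res_refl, one_smul] at hb ⊢
  rw [mul_smul, hb]

theorem genOn_unit_smul {L : X.Modules} {U : X.Opens} {e : Γ(L, U)} (he : GenOn L e) {a : Γ(X, U)}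
    (ha : IsUnit a) : GenOn L (a • e) :=
  TwistLib.genOn_of_genAt fun x hx => (AmpleLib.genAt_smul_iff a e hx (he.genAt hx)).2
    (by rwa [X.basicOpen_of_isUnit ha])

theorem puSecLE_res (g : P ⟶ X) (L : X.Modules) {U U' : X.Opens} (hU : U' ≤ U) {V : P.Opens} (h : V ≤ g ⁻¹ᵁ U')
    (m : Γ(L, U)) : puSecLE g L h (res L hU m) = puSecLE g L (h.trans (g.preimage_mono hU)) m := by
  rw [KFlatLib.puSecLE_apply, KFlatLib.puSecLE_apply]
  refine (congrArg ((pb g L).presheaf.map (homOfLE h).op)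
    (QCohLib.app_map ((Scheme.Modules.pullbackPushforwardAdjunction g).unit.app L) (homOfLE hU) m)).trans ?_
  exact QCohLib.map_map' (pb g L) (homOfLE h) (homOfLE (g.preimage_mono hU)) (puSec g m)

theorem res_puSecLE (g : P ⟶ X) (L : X.Modules) {U : X.Opens} {V V' : P.Opens} (h : V ≤ g ⁻¹ᵁ U) (hV : V' ≤ V)
    (m : Γ(L, U)) : res (pb g L) hV (puSecLE g L h m) = puSecLE g L (hV.trans h) m := by
  rw [KFlatLib.puSecLE_apply, KFlatLib.puSecLE_apply]
  exact AmpleLib.res_res (pb g L) h hV (puSec g m)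

/-- Generators compatible on overlaps glue to a trivialisation. -/
theorem trivial_of_compatible {L : X.Modules} {ι : Type*} (W : ι → X.Opens) (hW : ∀ x, ∃ i, x ∈ W i)
    (e : ∀ i, Γ(L, W i)) (he : ∀ i, GenOn L (e i))
    (h : ∀ i j, res L (inf_le_left : W i ⊓ W j ≤ W i) (e i) = res L (inf_le_right : W i ⊓ W j ≤ W j) (e j)) :
    ∃ s : Γ(L, (⊤ : X.Opens)), GenOn L s ∧ ∀ i, res L le_top s = e i := by
  let S : TopCat.Sheaf AddCommGrpCat.{u} X.toTopCat := (QCohLib.toAbF X).obj L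
  obtain ⟨s, hs, -⟩ := TopCat.Sheaf.existsUnique_gluing' S W ⊤ (fun i => homOfLE le_top)
    (fun x _ => Opens.mem_iSup.2 (hW x)) e h
  refine ⟨s, TwistLib.genOn_of_genAt fun x _ => ?_, hs⟩
  obtain ⟨i, hi⟩ := hW x
  refine (AmpleLib.genAt_res (le_top : W i ≤ ⊤) s hi).1 ?_
  rw [show res L (le_top : W i ≤ ⊤) s = e i from hs i]
  exact (he i).genAt hi

theorem trivial_of_genOn_top {L : X.Modules} {s : Γ(L, (⊤ : X.Opens))} (hs : GenOn L s) :
    Nonempty (L ≅ Coh.structureModule X) :=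
  ⟨(@asIso _ _ _ _ _ (AmpleLib.isIso_unitHom s hs)).symm⟩

/-- Locally trivial over the base and trivial along a section. -/
theorem trivial_of_local_of_section (p : P ⟶ X) (hp : UnivO p) (u : X ⟶ P) (hu : u ≫ p = 𝟙 X)
    {L : P.Modules} (h₁ : Nonempty ((Scheme.Modules.pullback u).obj L ≅ Coh.structureModule X))
    {ι : Type*} (U : ι → X.Opens) (hU : ∀ x, ∃ i, x ∈ U i) (e : ∀ i, Γ(L, p ⁻¹ᵁ U i))
    (he : ∀ i, GenOn L (e i)) : Nonempty (L ≅ Coh.structureModule P) := by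
  obtain ⟨γ, hγ⟩ := exists_genOn_top h₁
  have hle : ∀ V : X.Opens, V ≤ u ⁻¹ᵁ (p ⁻¹ᵁ V) := fun V => by
    rw [← Scheme.Hom.comp_preimage, hu, Scheme.Hom.id_preimage]
  choose t ht using fun i => (hγ (U i) le_top).2 (puSecLE u L (hle (U i)) (e i))
  have htu : ∀ i, IsUnit (t i) := fun i => by
    refine isUnit_of_genOn (hγ.res (le_top : U i ≤ ⊤)) ?_
    rw [show t i • res (pb u L) le_top γ = _ from ht i]
    exact genOn_puSecLE u (he i) (hle (U i))
  choose s hs using fun i => (htu i).exists_left_inv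
  let e' : ∀ i, Γ(L, p ⁻¹ᵁ U i) := fun i => p.app (U i) (s i) • e i
  have he' : ∀ i, GenOn L (e' i) := fun i =>
    genOn_unit_smul (he i) ((IsUnit.of_mul_eq_one _ (hs i)).map (p.app (U i)).hom)
  have hsec : ∀ (V : X.Opens) (a : Γ(X, V)), u.appLE (p ⁻¹ᵁ V) V (hle V) (p.app V a) = a := fun V a => by
    rw [Scheme.Hom.app_eq_appLE, ← ConcreteCategory.comp_apply, Scheme.Hom.appLE_comp_appLE]
    have key : ∀ (g : X ⟶ X) (h : V ≤ g ⁻¹ᵁ V), g = 𝟙 X → g.appLE V V h a = a := by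
      rintro g h rfl
      rw [Scheme.Hom.appLE, Scheme.Hom.id_app]
      exact congr($(X.presheaf.map_id _) a)
    exact key _ _ hu
  have hu' : ∀ i, puSecLE u L (hle (U i)) (e' i) = res (pb u L) le_top γ := fun i => by
    rw [KFlatLib.puSecLE_smul, hsec, ← show t i • res (pb u L) le_top γ = _ from ht i, smul_smul, hs, one_smul]
  obtain ⟨σ, hσ, -⟩ := trivial_of_compatible (fun i => p ⁻¹ᵁ U i) (fun x => hU (p x)) e' he' fun i j => by
    let T := U i ⊓ U j
    have h1 : p ⁻¹ᵁ T ≤ p ⁻¹ᵁ U i := p.preimage_mono inf_le_left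
    have h2 : p ⁻¹ᵁ T ≤ p ⁻¹ᵁ U j := p.preimage_mono inf_le_right
    obtain ⟨c, hc⟩ := ((he' i).res h1 (p ⁻¹ᵁ T) le_rfl).2 (res L h2 (e' j))
    simp only [AmpleLib.res_refl] at hc
    have := hp.appTop T
    obtain ⟨a, rfl⟩ := (ConcreteCategory.bijective_of_isIso (p.app T)).2 c
    have h3 := congrArg (puSecLE u L (hle T)) hc
    rw [KFlatLib.puSecLE_smul, hsec, puSecLE_res, puSecLE_res,
      ← res_puSecLE u L (hle (U i)) (inf_le_left : T ≤ U i), ← res_puSecLE u L (hle (U j)) (inf_le_right : T ≤ U j),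
      hu', hu', AmpleLib.res_res, AmpleLib.res_res] at h3
    have ha : a = 1 := by
      refine (hγ T le_top).1 ?_
      dsimp only
      rw [one_smul]
      exact h3
    rw [ha, map_one] at hc
    simp only [one_smul] at hc
    exact hc
  exact trivial_of_genOn_top hσ

end CubeLib
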