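import Mathlib

/-!
Modules over a local ring modulo the maximal ideal, and multiplication by a socle element.
-/

set_option autoImplicit false

noncomputable section

universe u

open scoped TensorProduct
open IsLocalRing

namespace CubeLib

variable {R : Type u} [CommRing R] [IsLocalRing R]

/-- The reduction of a module. -/
abbrev Red (B : Type u) [AddCommGroup B] [Module R B] : Type u := B ⧸ (maximalIdeal R • (⊤ : Submodule R B))

variable {B C : Type u} [AddCommGroup B] [Module R B] [AddCommGroup C] [Module R C]

/-- The reduction map. -/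
abbrev redMk (B : Type u) [AddCommGroup B] [Module R B] : B →ₗ[R] Red (R := R) B :=
  Submodule.mkQ (maximalIdeal R • (⊤ : Submodule R B))

theorem red_le_comap (g : B →ₗ[R] C) :
    maximalIdeal R • (⊤ : Submodule R B) ≤ (maximalIdeal R • (⊤ : Submodule R C)).comap g :=
  Submodule.smul_le.2 fun a ha b _ => by
    rw [Submodule.mem_comap, map_smul]
    exact Submodule.smul_mem_smul ha trivial

/-- Reduction of a linear map. -/
def redMap (g : B →ₗ[R] C) : Red (R := R) B →ₗ[R] Red (R := R) C :=
  Submodule.mapQ _ _ g (red_le_comap g)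

theorem redMap_mk (g : B →ₗ[R] C) (b : B) : redMap g (redMk B b) = redMk C (g b) := rfl

theorem smul_red_eq_zero {a : R} (ha : a ∈ maximalIdeal R) (x : Red (R := R) B) : a • x = 0 := by
  obtain ⟨b, rfl⟩ := Submodule.Quotient.mk_surjective _ x
  rw [← Submodule.Quotient.mk_smul, Submodule.Quotient.mk_eq_zero]
  exact Submodule.smul_mem_smul ha trivial

/-- A socle element. -/
structure Soc (R : Type u) [CommRing R] [IsLocalRing R] where
  /-- the element -/
  ε : R
  ne_zero : ε ≠ 0
  mem : ε ∈ maximalIdeal R
  mul_eq_zero : ∀ a ∈ maximalIdeal R, a * ε = 0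

variable (E : Soc R)

/-- Multiplication by the socle element on the reduction. -/
def Soc.θ (B : Type u) [AddCommGroup B] [Module R B] : Red (R := R) B →ₗ[R] B :=
  Submodule.liftQ _ (LinearMap.lsmul R B E.ε) (Submodule.smul_le.2 fun a ha b _ => by
    rw [LinearMap.mem_ker, LinearMap.lsmul_apply, smul_smul, mul_comm, E.mul_eq_zero a ha, zero_smul])

theorem Soc.θ_mk (b : B) : E.θ B (redMk B b) = E.ε • b := rfl

theorem Soc.θ_natural (g : B →ₗ[R] C) (x : Red (R := R) B) : E.θ C (redMap g x) = g (E.θ B x) := by
  obtain ⟨b, rfl⟩ := Submodule.Quotient.mk_surjective _ x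
  exact (map_smul g E.ε b).symm

theorem Soc.exact : Function.Exact (maximalIdeal R).subtype (LinearMap.lsmul R R E.ε) := fun a => by
  rw [LinearMap.lsmul_apply, smul_eq_mul, Set.mem_range]
  refine ⟨fun h => ⟨⟨a, ?_⟩, rfl⟩, ?_⟩
  · by_contra hne
    rw [mem_maximalIdeal, mem_nonunits_iff, not_not] at hne
    exact E.ne_zero ((hne.mul_left_eq_zero).1 h)
  · rintro ⟨b, rfl⟩
    rw [mul_comm]
    exact E.mul_eq_zero b.1 b.2

theorem Soc.θ_injective [Module.Flat R B] : Function.Injective (E.θ B) := by
  refine (injective_iff_map_eq_zero _).2 fun x hx => ?_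
  obtain ⟨b, rfl⟩ := Submodule.Quotient.mk_surjective _ x
  have h1 : ((LinearMap.lsmul R R E.ε).lTensor B) (b ⊗ₜ 1) = 0 := by
    rw [LinearMap.lTensor_tmul, LinearMap.lsmul_apply, smul_eq_mul, mul_one]
    refine (TensorProduct.rid R B).injective ?_
    rw [TensorProduct.rid_tmul, map_zero]
    exact hx
  obtain ⟨t, ht⟩ := (Module.Flat.lTensor_exact B E.exact _).1 h1
  refine (Submodule.Quotient.mk_eq_zero _).2 ?_
  have h2 : ∀ (t : B ⊗[R] maximalIdeal R), TensorProduct.rid R B ((maximalIdeal R).subtype.lTensor B t) ∈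
      maximalIdeal R • (⊤ : Submodule R B) := fun t => by
    induction t using TensorProduct.induction_on with
    | zero => simp
    | tmul c a => rw [LinearMap.lTensor_tmul, TensorProduct.rid_tmul]; exact Submodule.smul_mem_smul a.2 trivial
    | add a b ha hb => rw [map_add, map_add]; exact add_mem ha hb
  have h3 := h2 t
  rwa [ht, TensorProduct.rid_tmul, one_smul] at h3

theorem Soc.lTensor_θ_mk (A : Type u) [AddCommGroup A] [Module R A] (t : A ⊗[R] B) :
    (E.θ B).lTensor A ((redMk B).lTensor A t) = E.ε • t := by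
  induction t using TensorProduct.induction_on with
  | zero => simp
  | add a b ha hb => simp only [map_add, smul_add, ha, hb]
  | tmul a b => rw [LinearMap.lTensor_tmul, LinearMap.lTensor_tmul, E.θ_mk, TensorProduct.tmul_smul]

/-- A tensor is zero when all its coordinates modulo the maximal ideal vanish. -/
theorem eq_zero_of_functionals {A M : Type u} [AddCommGroup A] [Module R A] [AddCommGroup M] [Module R M]
    (hM : ∀ a ∈ maximalIdeal R, ∀ m : M, a • m = 0) (t : A ⊗[R] M)
    (h : ∀ φ : M →ₗ[R] R ⧸ maximalIdeal R, φ.lTensor A t = 0) : t = 0 := by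
  classical
  have htor : Module.IsTorsionBySet R M (maximalIdeal R : Set R) := fun m a => hM a.1 a.2 m
  letI : Module (R ⧸ maximalIdeal R) M := htor.module
  haveI : IsScalarTower R (R ⧸ maximalIdeal R) M := htor.isScalarTower
  letI := Ideal.Quotient.field (maximalIdeal R)
  let b := Module.Free.chooseBasis (R ⧸ maximalIdeal R) M
  let r : M ≃ₗ[R] (_ →₀ R ⧸ maximalIdeal R) := b.repr.restrictScalars R
  let F := (TensorProduct.congr (LinearEquiv.refl R A) r).trans (TensorProduct.finsuppRight R R A (R ⧸ maximalIdeal R) _)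
  refine F.injective (Finsupp.ext fun i => ?_)
  have key : ∀ t, F t i = ((Finsupp.lapply i).comp r.toLinearMap).lTensor A t := fun t => by
    induction t using TensorProduct.induction_on with
    | zero => simp
    | add x y hx hy => rw [map_add, map_add, Finsupp.add_apply, hx, hy]
    | tmul a m => simp [F]
  rw [map_zero, Finsupp.zero_apply, key, h]

end CubeLib
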