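import Groth.Agent.CubeLib.Lifts
import Groth.Agent.CubeLib.EpsMod

/-!
Cochains of a cover of the second factor with coefficients in functions on the first.
-/

set_option autoImplicit false
set_option maxRecDepth 8000
set_option maxHeartbeats 1000000

noncomputable section

universe u

open CategoryTheory CategoryTheory.Limits AlgebraicGeometry TopologicalSpace Opposite
open scoped TensorProduct
open AmpleLib (GenOn res)
open KFlatLib (pb puSecLE)

namespace CubeLib

variable {R : Type u} [CommRing R] [IsLocalRing R] (E : Soc R)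
variable {X Y P : Scheme.{u}} [X.Over (Spec (CommRingCat.of R))] [Y.Over (Spec (CommRingCat.of R))]
  [P.Over (Spec (CommRingCat.of R))]

attribute [local instance] algSec

/-- The product data. -/
structure Prod (pX : P ⟶ X) (pY : P ⟶ Y) : Prop where
  H : IsPullback pX pY (X ↘ Spec (CommRingCat.of R)) (Y ↘ Spec (CommRingCat.of R))
  hP : pX ≫ X ↘ Spec (CommRingCat.of R) = P ↘ Spec (CommRingCat.of R)
  hP' : pY ≫ Y ↘ Spec (CommRingCat.of R) = P ↘ Spec (CommRingCat.of R)

theorem resAlg_refl {Z : Scheme.{u}} [Z.Over (Spec (CommRingCat.of R))] (U : Z.Opens) :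
    (resAlg (R := R) (le_refl U)).toLinearMap = LinearMap.id :=
  LinearMap.ext fun a => congr($(Z.presheaf.map_id _) a)

variable {pX : P ⟶ X} {pY : P ⟶ Y} (D : Prod (R := R) pX pY)

/-- Socle multiples of functions on a product. -/
def bx (U : X.Opens) (V : Y.Opens) : Γ(X, U) ⊗[R] Red (R := R) Γ(Y, V) →ₗ[R] Γ(P, box pX pY U V) :=
  (boxMul D.hP D.hP' U V).toLinearMap ∘ₗ (E.θ Γ(Y, V)).lTensor Γ(X, U)

theorem bx_res {U U' : X.Opens} {V V' : Y.Opens} (hU : U' ≤ U) (hV : V' ≤ V) (t : Γ(X, U) ⊗[R] Red (R := R) Γ(Y, V)) :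
    P.presheaf.map (homOfLE (box_mono (pX := pX) (pY := pY) hU hV)).op (bx E D U V t) =
      bx E D U' V' (TensorProduct.map (resAlg hU).toLinearMap (redMap (resAlg hV).toLinearMap) t) := by
  refine (boxMul_res D.hP D.hP' hU hV _).symm.trans (congrArg (boxMul D.hP D.hP' U' V') ?_)
  rw [← LinearMap.comp_apply, ← LinearMap.comp_apply, LinearMap.map_comp_lTensor,
    LinearMap.lTensor_comp_map]
  congr 2
  exact LinearMap.ext fun x => (E.θ_natural (resAlg hV).toLinearMap x).symm

theorem bx_injective [Flat (X ↘ Spec (CommRingCat.of R))] [Flat (Y ↘ Spec (CommRingCat.of R))] {U : X.Opens}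
    {V : Y.Opens} (hU : IsAffineOpen U) (hV : IsAffineOpen V) : Function.Injective (bx E D U V) := by
  have := flat_sec (R := R) hU
  have := flat_sec (R := R) hV
  exact (boxMul_bijective D.H D.hP D.hP' hU hV).1.comp
    (Module.Flat.lTensor_preserves_injective_linearMap (E.θ Γ(Y, V)) E.θ_injective)

theorem exists_bx {U : X.Opens} {V : Y.Opens} (hU : IsAffineOpen U) (hV : IsAffineOpen V)
    (c : Γ(P, box pX pY U V)) : ∃ t, bx E D U V t = E.ε • c := by
  obtain ⟨t, rfl⟩ := (boxMul_bijective D.H D.hP D.hP' hU hV).2 c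
  refine ⟨(redMk Γ(Y, V)).lTensor Γ(X, U) t, ?_⟩
  change boxMul D.hP D.hP' U V ((E.θ Γ(Y, V)).lTensor Γ(X, U) _) = _
  rw [E.lTensor_θ_mk, map_smul]

theorem bx_eq_smul {U : X.Opens} {V : Y.Opens} (t : Γ(X, U) ⊗[R] Red (R := R) Γ(Y, V)) :
    ∃ c : Γ(P, box pX pY U V), bx E D U V t = E.ε • c := by
  obtain ⟨t₀, rfl⟩ := LinearMap.lTensor_surjective Γ(X, U) (Submodule.mkQ_surjective _ :
    Function.Surjective (redMk (R := R) Γ(Y, V))) t
  refine ⟨boxMul D.hP D.hP' U V t₀, ?_⟩
  change boxMul D.hP D.hP' U V ((E.θ Γ(Y, V)).lTensor Γ(X, U) _) = _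
  rw [E.lTensor_θ_mk, map_smul]

theorem eps_smul_mul {Z : Scheme.{u}} [Z.Over (Spec (CommRingCat.of R))] {W : Z.Opens} {a b : Γ(Z, W)}
    (ha : ∃ c, a = E.ε • c) (hb : ∃ c, b = E.ε • c) : a * b = 0 := by
  obtain ⟨c, rfl⟩ := ha
  obtain ⟨d, rfl⟩ := hb
  rw [smul_mul_assoc, mul_smul_comm, smul_smul, E.mul_eq_zero _ E.mem, zero_smul]

variable {J : Type u} [Fintype J] [DecidableEq J] (V : J → Y.Opens)

/-- Cochains of degree zero. -/
abbrev C0 : Type u := ∀ j, Red (R := R) Γ(Y, V j)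

/-- Cochains of degree one. -/
abbrev C1 : Type u := ∀ p : J × J, Red (R := R) Γ(Y, V p.1 ⊓ V p.2)

/-- The differential. -/
def d0 : C0 (R := R) V →ₗ[R] C1 (R := R) V :=
  LinearMap.pi fun p =>
    redMap (resAlg (inf_le_right : V p.1 ⊓ V p.2 ≤ V p.2)).toLinearMap ∘ₗ LinearMap.proj p.2 -
      redMap (resAlg (inf_le_left : V p.1 ⊓ V p.2 ≤ V p.1)).toLinearMap ∘ₗ LinearMap.proj p.1

/-- Classes. -/
abbrev H1 : Type u := C1 (R := R) V ⧸ LinearMap.range (d0 (R := R) V)

variable (U : X.Opens)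

/-- The coordinates of a cochain of degree one. -/
def coord1 (p : J × J) : Γ(X, U) ⊗[R] C1 (R := R) V →ₗ[R] Γ(P, box pX pY U (V p.1 ⊓ V p.2)) :=
  bx E D U (V p.1 ⊓ V p.2) ∘ₗ (LinearMap.proj p).lTensor Γ(X, U)

/-- The coordinates of a cochain of degree zero. -/
def coord0 (j : J) : Γ(X, U) ⊗[R] C0 (R := R) V →ₗ[R] Γ(P, box pX pY U (V j)) :=
  bx E D U (V j) ∘ₗ (LinearMap.proj j).lTensor Γ(X, U)

theorem piRight_eq {A : Type u} [AddCommGroup A] [Module R A] {K : Type u} [Fintype K] [DecidableEq K]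
    {M : K → Type u} [∀ k, AddCommGroup (M k)] [∀ k, Module R (M k)] (t : A ⊗[R] (∀ k, M k)) (k : K) :
    TensorProduct.piRight R R A M t k = (LinearMap.proj k).lTensor A t := by
  induction t using TensorProduct.induction_on with
  | zero => simp
  | add a b ha hb => rw [map_add, map_add, Pi.add_apply, ha, hb]
  | tmul a m => rfl

theorem coord1_res {U' : X.Opens} (hU : U' ≤ U) (p : J × J) (t : Γ(X, U) ⊗[R] C1 (R := R) V) :
    P.presheaf.map (homOfLE (box_mono (pX := pX) (pY := pY) hU le_rfl)).op (coord1 E D V U p t) =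
      coord1 E D V U' p ((resAlg hU).toLinearMap.rTensor (C1 (R := R) V) t) := by
  refine (bx_res E D hU (le_refl (V p.1 ⊓ V p.2)) _).trans (congrArg (bx E D U' _) ?_)
  induction t using TensorProduct.induction_on with
  | zero => simp only [map_zero]
  | add a b ha hb => simp only [map_add, ha, hb]
  | tmul a m =>
    rw [LinearMap.lTensor_tmul, TensorProduct.map_tmul, LinearMap.rTensor_tmul, LinearMap.lTensor_tmul]
    congr 1
    obtain ⟨b, hb⟩ := Submodule.Quotient.mk_surjective _ (m p)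
    change redMap _ (m p) = m p
    rw [← hb]
    change redMap _ (redMk _ b) = redMk _ b
    rw [redMap_mk, resAlg_refl, LinearMap.id_apply]

theorem coord1_d0 (p : J × J) (b : Γ(X, U) ⊗[R] C0 (R := R) V) :
    coord1 E D V U p ((d0 (R := R) V).lTensor Γ(X, U) b) =
      P.presheaf.map (homOfLE (box_mono (pX := pX) (pY := pY) (le_refl U) inf_le_right)).op (coord0 E D V U p.2 b) -
      P.presheaf.map (homOfLE (box_mono (pX := pX) (pY := pY) (le_refl U) inf_le_left)).op (coord0 E D V U p.1 b) := by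
  have h : ∀ (j : J) (hj : V p.1 ⊓ V p.2 ≤ V j),
      P.presheaf.map (homOfLE (box_mono (pX := pX) (pY := pY) (le_refl U) hj)).op (coord0 E D V U j b) =
        bx E D U (V p.1 ⊓ V p.2) (((redMap (resAlg hj).toLinearMap) ∘ₗ LinearMap.proj j).lTensor Γ(X, U) b) :=
    fun j hj => by
    refine (bx_res E D (le_refl U) hj _).trans (congrArg (bx E D U _) ?_)
    rw [resAlg_refl, LinearMap.lTensor_comp]
    rfl
  rw [h p.2 inf_le_right, h p.1 inf_le_left, ← map_sub, ← LinearMap.sub_apply, ← LinearMap.lTensor_sub]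
  refine congrArg (bx E D U _) ?_
  exact (LinearMap.lTensor_comp_apply Γ(X, U) (LinearMap.proj p) (d0 (R := R) V) b).symm

variable (hV : ∀ j, IsAffineOpen (V j)) [Flat (X ↘ Spec (CommRingCat.of R))] [Flat (Y ↘ Spec (CommRingCat.of R))]
  [Y.IsSeparated]

include hV in
theorem coord1_injective (hU : IsAffineOpen U) {t t' : Γ(X, U) ⊗[R] C1 (R := R) V}
    (h : ∀ p, coord1 E D V U p t = coord1 E D V U p t') : t = t' := by
  refine (TensorProduct.piRight R R _ _).injective (funext fun p => ?_)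
  rw [piRight_eq, piRight_eq]
  exact bx_injective E D hU ((hV p.1).inf (hV p.2)) (h p)

omit [Flat (X ↘ Spec (CommRingCat.of R))] [Flat (Y ↘ Spec (CommRingCat.of R))] in
include hV in
theorem exists_coord1 (hU : IsAffineOpen U) (c : ∀ p : J × J, Γ(P, box pX pY U (V p.1 ⊓ V p.2))) :
    ∃ t, ∀ p, coord1 E D V U p t = E.ε • c p := by
  choose s hs using fun p => exists_bx E D hU ((hV p.1).inf (hV p.2)) (c p)
  refine ⟨(TensorProduct.piRight R R _ _).symm s, fun p => ?_⟩
  rw [← hs p]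
  exact congrArg (bx E D U _) ((piRight_eq _ p).symm.trans
    (congr_fun ((TensorProduct.piRight R R _ _).apply_symm_apply s) p))

omit [Flat (X ↘ Spec (CommRingCat.of R))] [Flat (Y ↘ Spec (CommRingCat.of R))] [Y.IsSeparated] in
include hV in
theorem exists_coord0 (hU : IsAffineOpen U) (c : ∀ j : J, Γ(P, box pX pY U (V j))) :
    ∃ t, ∀ j, coord0 E D V U j t = E.ε • c j := by
  choose s hs using fun j => exists_bx E D hU (hV j) (c j)
  refine ⟨(TensorProduct.piRight R R _ _).symm s, fun j => ?_⟩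
  rw [← hs j]
  exact congrArg (bx E D U _) ((piRight_eq _ j).symm.trans
    (congr_fun ((TensorProduct.piRight R R _ _).apply_symm_apply s) j))

end CubeLib
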