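import Groth.Agent.CubeLib.Cech

/-!
Obstruction classes to trivialising over products.
-/

set_option autoImplicit false
set_option maxRecDepth 8000
set_option maxHeartbeats 1000000

noncomputable section

universe u

open CategoryTheory CategoryTheory.Limits AlgebraicGeometry TopologicalSpace Opposite
open scoped TensorProduct
open AmpleLib (GenOn res)
open KFlatLib (pb puSecLE)

namespace CubeLib

variable {R : Type u} [CommRing R] [IsLocalRing R]
variable {X Y P : Scheme.{u}} [X.Over (Spec (CommRingCat.of R))] [Y.Over (Spec (CommRingCat.of R))]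
  [P.Over (Spec (CommRingCat.of R))]

attribute [local instance] algSec

theorem isAffineOpen_box {pX : P ⟶ X} {pY : P ⟶ Y} (D : Prod (R := R) pX pY) {U : X.Opens} {V : Y.Opens}
    (hU : IsAffineOpen U) (hV : IsAffineOpen V) : IsAffineOpen (box pX pY U V) := by
  have h := Scheme.Hom.isPullback_resLE D.H (US := ⊤) (UT := V) (UX := U) le_top le_top (UY := box pX pY U V) rfl
  have : IsAffine _ := hU
  have : IsAffine _ := hV
  have : IsAffine _ := isAffineOpen_top (Spec (CommRingCat.of R))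
  exact .of_isIso h.isoPullback.hom

variable (E : Soc R) {pX : P ⟶ X} {pY : P ⟶ Y} (D : Prod (R := R) pX pY)
variable {J : Type u} [Fintype J] [DecidableEq J] (V : J → Y.Opens)
variable {Z : Scheme.{u}} (i : Z ⟶ P) {L : P.Modules} (z : Γ(pb i L, (⊤ : Z.Opens)))

/-- A cochain comparing lifts on products. -/
def IsClass (U : X.Opens) (e : ∀ j, Γ(L, box pX pY U (V j))) (t : Γ(X, U) ⊗[R] C1 (R := R) V) : Prop :=
  ∀ p : J × J, res L (box_mono (le_refl U) inf_le_right) (e p.2) =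
    (1 + coord1 E D V U p t) • res L (box_mono (le_refl U) inf_le_left) (e p.1)

/-- The obstruction class over an open of the first factor. -/
def HasCls (U : X.Opens) (h : Γ(X, U) ⊗[R] H1 (R := R) V) : Prop :=
  ∃ (e : ∀ j, Γ(L, box pX pY U (V j))) (t : Γ(X, U) ⊗[R] C1 (R := R) V),
    (∀ j, IsLift i z (e j)) ∧ IsClass E D V U e t ∧ h = (LinearMap.range (d0 (R := R) V)).mkQ.lTensor _ t

variable {E D V i z}

theorem res_box_res {U U' : X.Opens} (hU : U' ≤ U) {V₀ V₁ : Y.Opens} (hV : V₁ ≤ V₀) (e : Γ(L, box pX pY U V₀)) :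
    res L (box_mono (le_refl U') hV) (res L (box_mono hU (le_refl V₀)) e) =
      res L (box_mono hU (le_refl V₁)) (res L (box_mono (le_refl U) hV) e) := by
  rw [AmpleLib.res_res, AmpleLib.res_res]

theorem IsClass.res {U U' : X.Opens} (hU : U' ≤ U) {e : ∀ j, Γ(L, box pX pY U (V j))}
    {t : Γ(X, U) ⊗[R] C1 (R := R) V} (h : IsClass E D V U e t) :
    IsClass E D V U' (fun j => AmpleLib.res L (box_mono hU le_rfl) (e j))
      ((resAlg hU).toLinearMap.rTensor (C1 (R := R) V) t) := fun p => by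
  rw [res_box_res hU inf_le_right, res_box_res hU inf_le_left, h p, AmpleLib.res_smul, map_add, map_one, coord1_res E D V U hU p t]

theorem HasCls.res {U U' : X.Opens} (hU : U' ≤ U) {h : Γ(X, U) ⊗[R] H1 (R := R) V}
    (hh : HasCls E D V i z U h) :
    HasCls E D V i z U' ((resAlg hU).toLinearMap.rTensor (H1 (R := R) V) h) := by
  obtain ⟨e, t, he, hc, rfl⟩ := hh
  refine ⟨_, _, fun j => (he j).res (box_mono hU le_rfl), hc.res hU, ?_⟩
  rw [← LinearMap.comp_apply, ← LinearMap.comp_apply, LinearMap.rTensor_comp_lTensor, LinearMap.lTensor_comp_rTensor]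

variable [Flat (X ↘ Spec (CommRingCat.of R))] [Flat (Y ↘ Spec (CommRingCat.of R))] [Y.IsSeparated]
  [Coh.IsQCoh L] (T : Thick E.ε i) (hL : PicF.IsInvertible L) (hz : GenOn (pb i L) z) (hV : ∀ j, IsAffineOpen (V j))

include T hL hz hV

omit [Flat (X ↘ Spec (CommRingCat.of R))] [Flat (Y ↘ Spec (CommRingCat.of R))] in
theorem exists_hasCls {U : X.Opens} (hU : IsAffineOpen U) : ∃ h, HasCls E D V i z U h := by
  choose e he using fun j => T.exists_lift (L := L) (z := z) (isAffineOpen_box D hU (hV j))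
  choose c hc using fun p : J × J => IsLift.exists_diff T hL hz (isAffineOpen_box D hU ((hV p.1).inf (hV p.2)))
    ((he p.1).res (box_mono (le_refl U) inf_le_left)) ((he p.2).res (box_mono (le_refl U) inf_le_right))
  obtain ⟨t, ht⟩ := exists_coord1 E D V U hV hU c
  exact ⟨_, e, t, he, fun p => by rw [ht p]; exact hc p, rfl⟩

theorem HasCls.unique {U : X.Opens} (hU : IsAffineOpen U) {h h' : Γ(X, U) ⊗[R] H1 (R := R) V}
    (hh : HasCls E D V i z U h) (hh' : HasCls E D V i z U h') : h = h' := by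
  obtain ⟨e, t, he, hc, rfl⟩ := hh
  obtain ⟨e', t', he', hc', rfl⟩ := hh'
  choose c hc₀ using fun j => IsLift.exists_diff T hL hz (isAffineOpen_box D hU (hV j)) (he j) (he' j)
  obtain ⟨b, hb⟩ := exists_coord0 E D V U hV hU c
  have hbe : ∀ j, e' j = (1 + coord0 E D V U j b) • e j := fun j => by rw [hb j]; exact hc₀ j
  suffices h : t' = t + (d0 (R := R) V).lTensor _ b by
    rw [h, map_add]
    have : (LinearMap.range (d0 (R := R) V)).mkQ.lTensor Γ(X, U) ((d0 (R := R) V).lTensor _ b) = 0 := by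
      rw [← LinearMap.lTensor_comp_apply, LinearMap.range_mkQ_comp, LinearMap.lTensor_zero, LinearMap.zero_apply]
    rw [this, add_zero]
  refine coord1_injective E D V U hV hU fun p => ?_
  let e1 := AmpleLib.res L (box_mono (pX := pX) (pY := pY) (le_refl U) (inf_le_left : V p.1 ⊓ V p.2 ≤ V p.1)) (e p.1)
  have hg : GenOn L e1 := ((he p.1).genOn T hL hz).res _
  refine add_left_cancel (a := (1 : Γ(P, box pX pY U (V p.1 ⊓ V p.2)))) ?_
  obtain ⟨z1, hz1⟩ : ∃ x, x = P.presheaf.map (homOfLE (box_mono (pX := pX) (pY := pY) (le_refl U)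
    (inf_le_left : V p.1 ⊓ V p.2 ≤ V p.1))).op (coord0 E D V U p.1 b) := ⟨_, rfl⟩
  obtain ⟨z2, hz2⟩ : ∃ x, x = P.presheaf.map (homOfLE (box_mono (pX := pX) (pY := pY) (le_refl U)
    (inf_le_right : V p.1 ⊓ V p.2 ≤ V p.2))).op (coord0 E D V U p.2 b) := ⟨_, rfl⟩
  have m1 : ∃ w, z1 = E.ε • w := by
    obtain ⟨w, hw⟩ := bx_eq_smul E D ((LinearMap.proj p.1).lTensor Γ(X, U) b)
    exact ⟨_, hz1.trans ((congrArg _ hw).trans (map_smul (resAlg (R := R) _) E.ε w))⟩
  have m2 : ∃ w, z2 = E.ε • w := by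
    obtain ⟨w, hw⟩ := bx_eq_smul E D ((LinearMap.proj p.2).lTensor Γ(X, U) b)
    exact ⟨_, hz2.trans ((congrArg _ hw).trans (map_smul (resAlg (R := R) _) E.ε w))⟩
  have mt : ∃ w, coord1 E D V U p t = E.ε • w := bx_eq_smul E D _
  have mt' : ∃ w, coord1 E D V U p t' = E.ε • w := bx_eq_smul E D _
  have key := hc' p
  rw [hbe p.2, hbe p.1, AmpleLib.res_smul, AmpleLib.res_smul, map_add, map_add, map_one, map_one, ← hz1, ← hz2,
    hc p, smul_smul, smul_smul] at key
  have key' := (hg _ le_rfl).1 (show ((1 + z2) * (1 + coord1 E D V U p t)) •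
    AmpleLib.res L le_rfl e1 = ((1 + coord1 E D V U p t') * (1 + z1)) • AmpleLib.res L le_rfl e1 by
      rw [AmpleLib.res_refl]; exact key)
  rw [map_add, coord1_d0 E D V U p b, ← hz1, ← hz2]
  linear_combination -key' + eps_smul_mul E m2 mt - eps_smul_mul E mt' m1

omit [Flat (X ↘ Spec (CommRingCat.of R))] [Flat (Y ↘ Spec (CommRingCat.of R))] in
theorem exists_gen_of_cls_zero {U : X.Opens} (hU : IsAffineOpen U) (hcov : ∀ y : Y, ∃ j, y ∈ V j)
    (hh : HasCls E D V i z U 0) : ∃ e : Γ(L, pX ⁻¹ᵁ U), GenOn L e := by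
  obtain ⟨e, t, he, hc, h0⟩ := hh
  obtain ⟨b, rfl⟩ := (lTensor_exact Γ(X, U) (LinearMap.exact_map_mkQ_range (d0 (R := R) V))
    (Submodule.mkQ_surjective _) t).1 h0.symm
  let e' : ∀ j, Γ(L, box pX pY U (V j)) := fun j => (1 - coord0 E D V U j b) • e j
  have hgen : ∀ j, GenOn L (e' j) := fun j => by
    obtain ⟨w, hw⟩ := bx_eq_smul E D ((LinearMap.proj j).lTensor Γ(X, U) b)
    have h' := ((he j).smul T (-w)).genOn T hL hz
    rwa [smul_neg, ← sub_eq_add_neg, ← hw] at h'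
  let W : J → P.Opens := fun j => box pX pY U (V j)
  have hsup : pX ⁻¹ᵁ U ≤ iSup W := fun x hx => by
    obtain ⟨j, hj⟩ := hcov (pY x)
    exact Opens.mem_iSup.2 ⟨j, hx, hj⟩
  have hcomp : ∀ a c : J, res L (inf_le_left : W a ⊓ W c ≤ W a) (e' a) =
      res L (inf_le_right : W a ⊓ W c ≤ W c) (e' c) := fun a c => by
    have hle : W a ⊓ W c ≤ box pX pY U (V a ⊓ V c) := fun x hx => ⟨hx.1.1, hx.1.2, hx.2.2⟩
    rw [← AmpleLib.res_res L (box_mono (le_refl U) inf_le_left) hle, ← AmpleLib.res_res L (box_mono (le_refl U)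
      inf_le_right) hle]
    refine congrArg (res L hle) ?_
    rw [AmpleLib.res_smul, AmpleLib.res_smul, map_sub, map_sub, map_one, map_one, hc (a, c), smul_smul,
      coord1_d0 E D V U (a, c) b]
    congr 1
    obtain ⟨wa, hwa⟩ := bx_eq_smul E D ((LinearMap.proj a).lTensor Γ(X, U) b)
    obtain ⟨wc, hwc⟩ := bx_eq_smul E D ((LinearMap.proj c).lTensor Γ(X, U) b)
    obtain ⟨za, hza⟩ : ∃ x, x = P.presheaf.map (homOfLE (box_mono (pX := pX) (pY := pY) (le_refl U)
      (inf_le_left : V a ⊓ V c ≤ V a))).op (coord0 E D V U a b) := ⟨_, rfl⟩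
    obtain ⟨zc, hzc⟩ : ∃ x, x = P.presheaf.map (homOfLE (box_mono (pX := pX) (pY := pY) (le_refl U)
      (inf_le_right : V a ⊓ V c ≤ V c))).op (coord0 E D V U c b) := ⟨_, rfl⟩
    have ma : ∃ w, za = E.ε • w := ⟨_, hza.trans ((congrArg _ hwa).trans (map_smul (resAlg (R := R) _) E.ε wa))⟩
    have mc : ∃ w, zc = E.ε • w := ⟨_, hzc.trans ((congrArg _ hwc).trans (map_smul (resAlg (R := R) _) E.ε wc))⟩
    rw [← hza, ← hzc]
    linear_combination eps_smul_mul E mc mc - eps_smul_mul E mc ma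
  let S : TopCat.Sheaf AddCommGrpCat.{u} P.toTopCat := (QCohLib.toAbF P).obj L
  obtain ⟨s, hs, -⟩ := TopCat.Sheaf.existsUnique_gluing' S W (pX ⁻¹ᵁ U) (fun j => homOfLE inf_le_left) hsup e' hcomp
  refine ⟨s, TwistLib.genOn_of_genAt fun x hx => ?_⟩
  obtain ⟨j, hj⟩ := Opens.mem_iSup.1 (hsup hx)
  refine (AmpleLib.genAt_res (inf_le_left : W j ≤ pX ⁻¹ᵁ U) s hj).1 ?_
  rw [show res L (inf_le_left : W j ≤ pX ⁻¹ᵁ U) s = e' j from hs j]
  exact (hgen j).genAt hj

end CubeLib
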