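import Groth.Agent.CubeLib.SecAlg
import Groth.Agent.CubeLib.Glue

/-!
Lifting a trivialisation across a square zero principal thickening.
-/

set_option autoImplicit false
set_option maxRecDepth 8000

noncomputable section

universe u

open CategoryTheory CategoryTheory.Limits AlgebraicGeometry TopologicalSpace Opposite PrimeSpectrum
open AmpleLib (GenOn GenAt res)
open KFlatLib (pb puSec puSecLE)

namespace CubeLib

variable {R : Type u} [CommRing R] {P Z : Scheme.{u}} [P.Over (Spec (CommRingCat.of R))]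

attribute [local instance] algSec

/-- A closed subscheme cut out by a nilpotent element of the base. -/
structure Thick (ε : R) (i : Z ⟶ P) : Prop where
  sq : ∃ q : Z ⟶ Spec (CommRingCat.of (R ⧸ Ideal.span {ε})),
    IsPullback i q (P ↘ Spec (CommRingCat.of R)) (Spec.map (CommRingCat.ofHom (Ideal.Quotient.mk (Ideal.span {ε}))))
  sq_zero : ε * ε = 0

variable {ε : R} {i : Z ⟶ P} (T : Thick ε i)

include T in
theorem Thick.surjective : Function.Surjective i := by
  obtain ⟨q, H⟩ := T.sq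
  have : Surjective (Spec.map (CommRingCat.ofHom (Ideal.Quotient.mk (Ideal.span {ε})))) := ⟨fun x => by
    let x' : PrimeSpectrum R := x
    have hx : x' ∈ Set.range (PrimeSpectrum.comap (Ideal.Quotient.mk (Ideal.span {ε}))) := by
      rw [range_comap_of_surjective _ _ Ideal.Quotient.mk_surjective, PrimeSpectrum.mem_zeroLocus,
        Ideal.mk_ker]
      refine SetLike.coe_subset_coe.2 (Ideal.span_le.2 (Set.singleton_subset_iff.2 ?_))
      exact x'.2.mem_of_pow_mem 2 (by rw [pow_two, T.sq_zero]; exact zero_mem _)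
    exact hx⟩
  exact (MorphismProperty.of_isPullback (P := @Surjective) H.flip this).1

include T in
theorem Thick.sec {U : P.Opens} (hU : IsAffineOpen U) :
    IsAffineOpen (i ⁻¹ᵁ U) ∧ Function.Surjective (i.app U) ∧
      ∀ r, i.app U r = 0 → ∃ c : Γ(P, U), r = ε • c := by
  obtain ⟨q, H⟩ := T.sq
  obtain ⟨h1, h2, h3⟩ := thickening_sec (Ideal.span {ε}) H hU
  refine ⟨h1, h2, fun r hr => ?_⟩
  have h := h3 r hr
  rw [Submodule.ideal_span_singleton_smul, Submodule.mem_smul_pointwise_iff_exists] at h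
  obtain ⟨c, -, hc⟩ := h
  exact ⟨c, hc.symm⟩

include T in
theorem Thick.app_smul {U : P.Opens} {V : Z.Opens} (hV : V ≤ i ⁻¹ᵁ U) (c : Γ(P, U)) :
    i.appLE U V hV (ε • c) = 0 := by
  rw [Algebra.smul_def, map_mul]
  suffices h : i.appLE U V hV (algebraMap R Γ(P, U) ε) = 0 by rw [h, zero_mul]
  obtain ⟨q, H⟩ := T.sq
  let : Z.Over (Spec (CommRingCat.of R)) := ⟨i ≫ P ↘ Spec (CommRingCat.of R)⟩
  have h2 := congr($(algMor_appLE (R := R) i rfl U V hV) ε)
  refine h2.trans ?_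
  rw [algMor, show (Z ↘ Spec (CommRingCat.of R)) =
    q ≫ Spec.map (CommRingCat.ofHom (Ideal.Quotient.mk (Ideal.span {ε}))) from H.w,
    ← Scheme.Hom.appLE_comp_appLE q _ ⊤ ⊤ V (fun _ _ => trivial) (fun _ _ => trivial)]
  rw [ConcreteCategory.comp_apply, ConcreteCategory.comp_apply]
  convert map_zero (q.appLE ⊤ V (fun _ _ => trivial)).hom using 2
  have e : (Spec.map (CommRingCat.ofHom (Ideal.Quotient.mk (Ideal.span {ε})))).appLE ⊤ ⊤ (fun _ _ => trivial) =
      (Spec.map (CommRingCat.ofHom (Ideal.Quotient.mk (Ideal.span {ε})))).appTop := by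
    rw [Scheme.Hom.appTop, Scheme.Hom.app_eq_appLE]
    rfl
  rw [e, ← ConcreteCategory.comp_apply, ← Scheme.ΓSpecIso_inv_naturality]
  exact (congrArg (Scheme.ΓSpecIso (CommRingCat.of (R ⧸ Ideal.span {ε}))).inv.hom
    (Ideal.Quotient.eq_zero_iff_mem.2 (Ideal.mem_span_singleton_self ε))).trans (map_zero _)

variable (i) in
/-- Lifts of a section of the restriction to the closed subscheme. -/
def IsLift {L : P.Modules} (z : Γ(pb i L, (⊤ : Z.Opens))) {W : P.Opens} (e : Γ(L, W)) : Prop :=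
  puSecLE i L (le_refl (i ⁻¹ᵁ W)) e = res (pb i L) le_top z

variable {L : P.Modules} {z : Γ(pb i L, (⊤ : Z.Opens))}

theorem IsLift.res {W W' : P.Opens} (hW : W' ≤ W) {e : Γ(L, W)} (he : IsLift i z e) :
    IsLift i z (AmpleLib.res L hW e) := by
  have h := congrArg (AmpleLib.res (pb i L) (i.preimage_mono hW)) he
  rw [res_puSecLE, AmpleLib.res_res] at h
  rw [IsLift, puSecLE_res]
  exact h

include T in
theorem IsLift.smul {W : P.Opens} {e : Γ(L, W)} (he : IsLift i z e) (c : Γ(P, W)) :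
    IsLift i z ((1 + ε • c) • e) := by
  rw [IsLift, KFlatLib.puSecLE_smul, map_add, map_one, T.app_smul, add_zero, one_smul]
  exact he

include T in
theorem IsLift.genOn (hL : PicF.IsInvertible L) (hz : GenOn (pb i L) z) {W : P.Opens} {e : Γ(L, W)}
    (he : IsLift i z e) : GenOn L e :=
  TwistLib.genOn_of_genAt fun x hx => by
    obtain ⟨y, rfl⟩ := T.surjective x
    refine CohCmpLib.genAt_of_puSec i hL e hx ?_
    have h := hz.genAt (show y ∈ (⊤ : Z.Opens) from trivial)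
    rw [← AmpleLib.genAt_res (le_top : i ⁻¹ᵁ W ≤ ⊤) z (show y ∈ i ⁻¹ᵁ W from hx), ← he, KFlatLib.puSecLE_apply] at h
    exact (AmpleLib.genAt_res (le_refl (i ⁻¹ᵁ W)) (puSec i e) (show y ∈ i ⁻¹ᵁ W from hx)).1 h

variable [Coh.IsQCoh L]

include T in
theorem Thick.exists_pull {W : P.Opens} (hW : IsAffineOpen W) :
    Function.Surjective (puSecLE i L (le_refl (i ⁻¹ᵁ W))) ∧
      ∀ d, puSecLE i L (le_refl (i ⁻¹ᵁ W)) d = 0 → ∃ m : Γ(L, W), d = (ε • (1 : Γ(P, W))) • m := by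
  obtain ⟨hZ, hs, hk⟩ := T.sec hW
  let : Algebra Γ(P, W) Γ(Z, i ⁻¹ᵁ W) := (i.appLE W (i ⁻¹ᵁ W) le_rfl).hom.toAlgebra
  let : Module Γ(P, W) Γ(pb i L, i ⁻¹ᵁ W) := Module.compHom _ (i.appLE W (i ⁻¹ᵁ W) le_rfl).hom
  have : IsScalarTower Γ(P, W) Γ(Z, i ⁻¹ᵁ W) Γ(pb i L, i ⁻¹ᵁ W) := IsScalarTower.of_algebraMap_smul fun _ _ => rfl
  let ψ : Γ(L, W) →ₗ[Γ(P, W)] Γ(pb i L, i ⁻¹ᵁ W) :=
    { toFun := puSecLE i L le_rfl
      map_add' := map_add _
      map_smul' := fun r m => KFlatLib.puSecLE_smul i L le_rfl r m }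
  have hb := KFlatLib.isBaseChange_puSec i L hW hZ le_rfl (fun _ => rfl) ψ fun _ => rfl
  have hs' : Function.Surjective (algebraMap Γ(P, W) Γ(Z, i ⁻¹ᵁ W)) := fun y => by
    obtain ⟨a, ha⟩ := hs y
    exact ⟨a, (congrArg (fun φ => φ a) (congrArg (fun φ => φ.hom) (Scheme.Hom.app_eq_appLE i (U := W)).symm)).trans ha⟩
  refine ⟨fun y => ?_, fun d hd => ?_⟩
  · obtain ⟨t, ht⟩ := hb.equiv.surjective y
    obtain ⟨m, rfl⟩ := TensorProduct.mk_surjective Γ(P, W) Γ(L, W) Γ(Z, i ⁻¹ᵁ W) hs' t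
    rw [TensorProduct.mk_apply, IsBaseChange.equiv_tmul, one_smul] at ht
    exact ⟨m, ht⟩
  · have h0 : (1 : Γ(Z, i ⁻¹ᵁ W)) ⊗ₜ[Γ(P, W)] d = 0 := hb.equiv.injective (by
      rw [IsBaseChange.equiv_tmul, one_smul, map_zero]; exact hd)
    rw [CohCmpLib.one_tmul_eq_zero_iff hs'] at h0
    refine Submodule.smul_induction_on h0 (fun r hr m _ => ?_) (fun a b ⟨m, hm⟩ ⟨m', hm'⟩ => ⟨m + m', ?_⟩)
    · rw [RingHom.mem_ker] at hr
      obtain ⟨c, rfl⟩ := hk r (by rw [Scheme.Hom.app_eq_appLE]; exact hr)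
      exact ⟨c • m, by rw [Algebra.smul_def, Algebra.smul_def, mul_one, mul_smul]⟩
    · rw [hm, hm', smul_add]

include T in
theorem Thick.exists_lift {W : P.Opens} (hW : IsAffineOpen W) : ∃ e : Γ(L, W), IsLift i z e :=
  (T.exists_pull (L := L) hW).1 _

include T in
theorem IsLift.exists_diff (hL : PicF.IsInvertible L) (hz : GenOn (pb i L) z) {W : P.Opens} (hW : IsAffineOpen W)
    {e e' : Γ(L, W)} (he : IsLift i z e) (he' : IsLift i z e') :
    ∃ c : Γ(P, W), e' = (1 + ε • c) • e := by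
  obtain ⟨m, hm⟩ := (T.exists_pull (L := L) hW).2 (e' - e)
    (by rw [map_sub, show puSecLE i L _ e' = _ from he', show puSecLE i L _ e = _ from he, sub_self])
  obtain ⟨c, hc⟩ := ((he.genOn T hL hz) W le_rfl).2 m
  simp only [AmpleLib.res_refl] at hc
  refine ⟨c, ?_⟩
  rw [Algebra.smul_def, mul_one, ← hc] at hm
  rw [add_smul, one_smul, Algebra.smul_def, mul_smul]
  exact (sub_eq_iff_eq_add'.1 hm)

end CubeLib
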