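import Groth.Agent.CubeLib.EpsMod

/-!
A quotient of a local ring in which a given finitely generated ideal becomes a socle line.
-/

set_option autoImplicit false

noncomputable section

universe u

open IsLocalRing

namespace CubeLib

variable {R : Type u} [CommRing R] [IsLocalRing R]

/-- A finitely generated nonzero ideal spans a socle line in a suitable quotient. -/
theorem exists_soc_quotient {I : Ideal R} (hfg : I.FG) (h0 : I ≠ ⊥) (hm : I ≤ maximalIdeal R) :
    ∃ (J : Ideal R) (_ : IsLocalRing (R ⧸ J)) (E : Soc (R ⧸ J)),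
      J ≤ I ∧ I.map (Ideal.Quotient.mk J) = Ideal.span {E.ε} := by
  have : Module.Finite R I := Module.Finite.iff_fg.2 hfg
  have : Nontrivial I := Submodule.nontrivial_iff_ne_bot.2 h0
  obtain ⟨J₀, hJ₀, -⟩ :=
    (IsCoatomic.eq_top_or_exists_le_coatom (⊥ : Submodule R I)).resolve_left bot_ne_top
  obtain ⟨⟨x, hxI⟩, hxJ⟩ : ∃ x : I, x ∉ J₀ := by
    by_contra! h
    exact hJ₀.1 (eq_top_iff.2 fun x _ => h x)
  let J : Ideal R := J₀.map I.subtype
  have hJI : J ≤ I := Submodule.map_subtype_le I J₀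
  have hxJ' : x ∉ J := fun h => by
    obtain ⟨⟨y, hy⟩, hy', rfl⟩ := Submodule.mem_map.1 h
    exact hxJ hy'
  have hspan : J₀ ⊔ Submodule.span R {(⟨x, hxI⟩ : I)} = ⊤ :=
    hJ₀.2 _ (lt_of_le_of_ne le_sup_left fun e => hxJ (e.symm ▸ Submodule.mem_sup_right (Submodule.mem_span_singleton_self _)))
  have hgen : ∀ y ∈ I, ∃ j ∈ J, ∃ a : R, y = j + a * x := fun y hy => by
    have h : (⟨y, hy⟩ : I) ∈ J₀ ⊔ Submodule.span R {(⟨x, hxI⟩ : I)} := hspan ▸ Submodule.mem_top
    obtain ⟨j, hj, w, hw, hjw⟩ := Submodule.mem_sup.1 h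
    obtain ⟨a, rfl⟩ := Submodule.mem_span_singleton.1 hw
    exact ⟨j, Submodule.mem_map.2 ⟨j, hj, rfl⟩, a, (congrArg Subtype.val hjw).symm⟩
  have hJtop : J ≠ ⊤ := fun e => hxJ' (e.symm ▸ Submodule.mem_top)
  have : Nontrivial (R ⧸ J) := Ideal.Quotient.nontrivial_iff.2 hJtop
  have : IsLocalRing (R ⧸ J) := IsLocalRing.of_surjective' (Ideal.Quotient.mk J) Ideal.Quotient.mk_surjective
  have hloc : IsLocalHom (Ideal.Quotient.mk J) :=
    IsLocalHom.of_surjective _ Ideal.Quotient.mk_surjective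
  have key : ∀ a ∈ maximalIdeal R, a * x ∈ J := fun a ha => by
    by_contra hne
    have h2 : J₀ ⊔ Submodule.span R {(⟨a * x, I.mul_mem_left a hxI⟩ : I)} = ⊤ :=
      hJ₀.2 _ (lt_of_le_of_ne le_sup_left fun e => hne (Submodule.mem_map.2
        ⟨_, e.symm ▸ Submodule.mem_sup_right (Submodule.mem_span_singleton_self _), rfl⟩))
    have h : (⟨x, hxI⟩ : I) ∈ J₀ ⊔ Submodule.span R {(⟨a * x, I.mul_mem_left a hxI⟩ : I)} :=
      h2 ▸ Submodule.mem_top
    obtain ⟨j, hj, w, hw, hjw⟩ := Submodule.mem_sup.1 h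
    obtain ⟨b, rfl⟩ := Submodule.mem_span_singleton.1 hw
    have h1 : (j : R) + b * (a * x) = x := congrArg Subtype.val hjw
    have h3 : (1 - b * a) * x ∈ J := by
      rw [show (1 - b * a) * x = (j : R) by linear_combination -h1]
      exact Submodule.mem_map.2 ⟨j, hj, rfl⟩
    have hu : IsUnit (1 - b * a) := isUnit_one_sub_self_of_mem_nonunits _ ((maximalIdeal R).mul_mem_left b ha)
    exact hxJ' ((Ideal.unit_mul_mem_iff_mem J hu).1 h3)
  refine ⟨J, ‹_›, ⟨Ideal.Quotient.mk J x, fun h => hxJ' (Ideal.Quotient.eq_zero_iff_mem.1 h), ?_, ?_⟩, hJI, ?_⟩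
  · exact map_nonunit (Ideal.Quotient.mk J) x (hm hxI)
  · intro a ha
    obtain ⟨a, rfl⟩ := Ideal.Quotient.mk_surjective a
    rw [← map_mul, Ideal.Quotient.eq_zero_iff_mem]
    refine key a ?_
    rw [mem_maximalIdeal, mem_nonunits_iff] at ha ⊢
    exact fun h => ha (h.map _)
  · refine le_antisymm (Ideal.map_le_iff_le_comap.2 fun y hy => ?_) (Ideal.span_le.2 (Set.singleton_subset_iff.2
      (Ideal.mem_map_of_mem _ hxI)))
    obtain ⟨j, hj, a, rfl⟩ := hgen y hy
    rw [Ideal.mem_comap, map_add, map_mul, Ideal.Quotient.eq_zero_iff_mem.2 hj, zero_add]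
    exact Ideal.mul_mem_left _ _ (Ideal.mem_span_singleton_self _)

end CubeLib
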