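import Groth.Agent.CubeLib.SmallExt
import Groth.Agent.CubeLib.Socle

/-!
The cube argument: triviality near a point of the base.
-/

set_option autoImplicit false
set_option maxRecDepth 8000
set_option maxHeartbeats 1000000

noncomputable section

universe u

open CategoryTheory CategoryTheory.Limits AlgebraicGeometry TopologicalSpace Opposite

namespace CubeLib

variable {X Y S : Scheme.{u}}

theorem trivial_of_restrict_top {M : X.Modules} {W : X.Opens} (hW : W = ⊤)
    (h : Nonempty (M.restrict W.ι ≅ Coh.structureModule W.toScheme)) : Nonempty (M ≅ Coh.structureModule X) := by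
  subst hW
  have h' : Nonempty ((Scheme.Modules.pullback (⊤ : X.Opens).ι).obj M ≅ Coh.structureModule _) :=
    ⟨((Scheme.Modules.restrictFunctorIsoPullback _).app M).symm ≪≫ h.some⟩
  have e : X.topIso.inv ≫ (⊤ : X.Opens).ι = 𝟙 X := by rw [← Scheme.topIso_hom, Iso.inv_hom_id]
  obtain ⟨t⟩ := trivial_pullback (g := X.topIso.inv) h'
  exact ⟨((Scheme.Modules.pullbackId X).app M).symm ≪≫ (Scheme.Modules.pullbackCongr e.symm).app M ≪≫
    ((Scheme.Modules.pullbackComp _ _).app M).symm ≪≫ t⟩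

/-- A stratum square has liftable sections on fibres. -/
theorem epi_bc0_of_stratSq {π : X ⟶ S} {L : X.Modules} {XT T : Scheme.{u}} {fT : XT ⟶ T} {gT : XT ⟶ X}
    (h : CohCmpLib.StratSq L 1 fT gT) (y : T) :
    Epi (CohBC.bc0 fT (T.fromSpecResidueField y) (fT.fiberToSpecResidueField y) (fT.fiberι y) (fT.fiber_fac y)
      ((Scheme.Modules.pullback gT).obj L)) := by
  have := h.2 (fT.fiberι y) (fT.fiberToSpecResidueField y) (T.fromSpecResidueField y)
    (IsPullback.of_hasPullback fT _)
  infer_instance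

variable (f : X ⟶ S) (g : Y ⟶ S) [Flat f] [IsProper f] [LocallyOfFinitePresentation f]
    [Flat g] [IsProper g] [LocallyOfFinitePresentation g]

omit [Flat f] [IsProper f] [LocallyOfFinitePresentation f] [Flat g] [IsProper g] [LocallyOfFinitePresentation g] in
theorem univO_fst_comp (hf : UnivO f) (hg : UnivO g) : UnivO (pullback.fst f g ≫ f) :=
  (hg.of_isPullback (IsPullback.of_hasPullback f g).flip).comp hf

set_option backward.isDefEq.respectTransparency false in
/-- **The inductive step**: the stratum contains small extensions of its points. -/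
theorem lifts_soc (hf : UnivO f) (hg : UnivO g) (σ : S ⟶ X) (hσ : σ ≫ f = 𝟙 S) (τ : S ⟶ Y) (hτ : τ ≫ g = 𝟙 S)
    {L : (pullback f g).Modules} (hL : PicF.IsInvertible L)
    (u : X ⟶ pullback f g) (hu1 : u ≫ pullback.fst f g = 𝟙 X) (hu2 : u ≫ pullback.snd f g = f ≫ τ)
    (v : Y ⟶ pullback f g) (hv1 : v ≫ pullback.fst f g = g ≫ σ) (hv2 : v ≫ pullback.snd f g = 𝟙 Y)
    (h1 : Nonempty ((Scheme.Modules.pullback u).obj L ≅ Coh.structureModule X))
    (h2 : Nonempty ((Scheme.Modules.pullback v).obj L ≅ Coh.structureModule Y))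
    {Z : Scheme.{u}} (ι : Z ⟶ S)
    (hiff : ∀ (T : Scheme.{u}) (w : T ⟶ S) (XT : Scheme.{u}) (fT : XT ⟶ T) (gT : XT ⟶ pullback f g),
        IsPullback gT fT (pullback.fst f g ≫ f) w → ((∃ w' : T ⟶ Z, w' ≫ ι = w) ↔ CohCmpLib.StratSq L 1 fT gT))
    {R : Type u} [CommRing R] [IsLocalRing R] (E : Soc R) (t : Spec (CommRingCat.of R) ⟶ S)
    (hl : ∃ l : Spec (CommRingCat.of (R ⧸ Ideal.span {E.ε})) ⟶ Z,
      l ≫ ι = Spec.map (CommRingCat.ofHom (Ideal.Quotient.mk (Ideal.span {E.ε}))) ≫ t)
    (hs : Nonempty ((Scheme.Modules.pullback ((pullback.fst f g ≫ f).fiberι (t (IsLocalRing.closedPoint R)))).obj L ≅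
      Coh.structureModule ((pullback.fst f g ≫ f).fiber (t (IsLocalRing.closedPoint R))))) :
    ∃ l : Spec (CommRingCat.of R) ⟶ Z, l ≫ ι = t := by
  let π := pullback.fst f g ≫ f
  let X' := pullback f t
  let Y' := pullback g t
  let : X'.Over (Spec (CommRingCat.of R)) := ⟨pullback.snd f t⟩
  let : Y'.Over (Spec (CommRingCat.of R)) := ⟨pullback.snd g t⟩
  let P' := pullback (X' ↘ Spec (CommRingCat.of R)) (Y' ↘ Spec (CommRingCat.of R))
  let pX : P' ⟶ X' := pullback.fst _ _
  let pY : P' ⟶ Y' := pullback.snd _ _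
  let : P'.Over (Spec (CommRingCat.of R)) := ⟨pX ≫ X' ↘ Spec (CommRingCat.of R)⟩
  have D : Prod (R := R) pX pY := ⟨IsPullback.of_hasPullback _ _, rfl, pullback.condition.symm⟩
  have : Flat (X' ↘ Spec (CommRingCat.of R)) := MorphismProperty.pullback_snd _ _ ‹_›
  have : Flat (Y' ↘ Spec (CommRingCat.of R)) := MorphismProperty.pullback_snd _ _ ‹_›
  have : IsProper (X' ↘ Spec (CommRingCat.of R)) := MorphismProperty.pullback_snd _ _ ‹_›
  have : IsProper (Y' ↘ Spec (CommRingCat.of R)) := MorphismProperty.pullback_snd _ _ ‹_›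
  have hX' : UnivO (X' ↘ Spec (CommRingCat.of R)) := hf.of_isPullback (IsPullback.of_hasPullback f t)
  have hY' : UnivO (Y' ↘ Spec (CommRingCat.of R)) := hg.of_isPullback (IsPullback.of_hasPullback g t)
  have hwg : (pX ≫ pullback.fst f t) ≫ f = (pY ≫ pullback.fst g t) ≫ g := by
    rw [Category.assoc, Category.assoc, pullback.condition, pullback.condition, ← Category.assoc, ← Category.assoc]
    exact congrArg (· ≫ t) D.H.w
  let gT : P' ⟶ pullback f g := pullback.lift (pX ≫ pullback.fst f t) (pY ≫ pullback.fst g t) hwg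
  have hA : IsPullback gT pX (pullback.fst f g) (pullback.fst f t) := by
    refine IsPullback.of_right ?_ (pullback.lift_fst _ _ _) (IsPullback.of_hasPullback f g).flip
    rw [pullback.lift_snd, pullback.condition]
    exact D.H.flip.paste_horiz (IsPullback.of_hasPullback g t)
  have H : IsPullback gT (pX ≫ X' ↘ Spec (CommRingCat.of R)) π t :=
    hA.paste_vert (IsPullback.of_hasPullback f t)
  let σ' : Spec (CommRingCat.of R) ⟶ X' := pullback.lift (t ≫ σ) (𝟙 _) (by rw [Category.assoc, hσ, Category.comp_id, Category.id_comp])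
  have hσ' : σ' ≫ X' ↘ Spec (CommRingCat.of R) = 𝟙 _ := pullback.lift_snd _ _ _
  let τ' : Spec (CommRingCat.of R) ⟶ Y' := pullback.lift (t ≫ τ) (𝟙 _) (by rw [Category.assoc, hτ, Category.comp_id, Category.id_comp])
  have hτ' : τ' ≫ Y' ↘ Spec (CommRingCat.of R) = 𝟙 _ := pullback.lift_snd _ _ _
  let u' : X' ⟶ P' := pullback.lift (𝟙 _) (X' ↘ Spec (CommRingCat.of R) ≫ τ')
    (by rw [Category.assoc, hτ', Category.comp_id, Category.id_comp])
  let v' : Y' ⟶ P' := pullback.lift (Y' ↘ Spec (CommRingCat.of R) ≫ σ') (𝟙 _)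
    (by rw [Category.assoc, hσ', Category.comp_id, Category.id_comp])
  have eu : u' ≫ gT = pullback.fst f t ≫ u := by
    apply pullback.hom_ext
    · rw [Category.assoc, pullback.lift_fst, ← Category.assoc, pullback.lift_fst, Category.id_comp,
        Category.assoc, hu1, Category.comp_id]
    · rw [Category.assoc, pullback.lift_snd, ← Category.assoc, pullback.lift_snd, Category.assoc,
        pullback.lift_fst, Category.assoc, hu2, ← Category.assoc, ← Category.assoc, pullback.condition]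
      rfl
  have ev : v' ≫ gT = pullback.fst g t ≫ v := by
    apply pullback.hom_ext
    · rw [Category.assoc, pullback.lift_fst, ← Category.assoc, pullback.lift_fst, Category.assoc,
        pullback.lift_fst, Category.assoc, hv1, ← Category.assoc, ← Category.assoc, pullback.condition]
      rfl
    · rw [Category.assoc, pullback.lift_snd, ← Category.assoc, pullback.lift_snd, Category.id_comp,
        Category.assoc, hv2, Category.comp_id]
  let m := Spec.map (CommRingCat.ofHom (Ideal.Quotient.mk (Ideal.span {E.ε})))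
  let i : pullback (P' ↘ Spec (CommRingCat.of R)) m ⟶ P' := pullback.fst _ _
  let q : pullback (P' ↘ Spec (CommRingCat.of R)) m ⟶ _ := pullback.snd _ _
  have Hi : IsPullback i q (P' ↘ Spec (CommRingCat.of R)) m := IsPullback.of_hasPullback _ _
  have T : Thick E.ε i := ⟨⟨q, Hi⟩, E.mul_eq_zero _ E.mem⟩
  have HT : IsPullback (i ≫ gT) q π (m ≫ t) := Hi.paste_horiz H
  have hst : CohCmpLib.StratSq L 1 q (i ≫ gT) := (hiff _ _ _ _ _ HT).1 hl
  have : IsProper π := inferInstance
  have : IsProper q := MorphismProperty.of_isPullback HT ‹_›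
  have : Nontrivial (R ⧸ Ideal.span {E.ε}) := Ideal.Quotient.nontrivial_iff.2 fun e =>
    E.mem (Ideal.span_singleton_eq_top.1 e)
  have : IsLocalRing (R ⧸ Ideal.span {E.ε}) :=
    IsLocalRing.of_surjective' (Ideal.Quotient.mk _) Ideal.Quotient.mk_surjective
  let z : Spec (CommRingCat.of (R ⧸ Ideal.span {E.ε})) := IsLocalRing.closedPoint _
  have hz : (m ≫ t) z = t (IsLocalRing.closedPoint R) := by
    have : IsLocalHom (Ideal.Quotient.mk (Ideal.span {E.ε})) :=
      IsLocalHom.of_surjective _ Ideal.Quotient.mk_surjective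
    rw [Scheme.Hom.comp_apply]
    exact congrArg t (IsLocalRing.comap_closedPoint (Ideal.Quotient.mk (Ideal.span {E.ε})))
  obtain ⟨U, hzU, hU⟩ := CohCmpLib.exists_trivial_near q (AmpleDevLib.isInvertible_pb (i ≫ gT) hL) z
    (fibre_trivial_of_isPullback HT z (by rw [hz]; exact hs)) (epi_bc0_of_stratSq (π := π) hst z)
  have hUt : U = ⊤ := eq_top_iff.2 fun p _ => (IsLocalRing.specializes_closedPoint p).mem_open U.2 hzU
  obtain ⟨w⟩ := trivial_of_restrict_top (by rw [hUt, Scheme.Hom.preimage_top]) hU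
  have h3 : Nonempty ((Scheme.Modules.pullback i).obj ((Scheme.Modules.pullback gT).obj L) ≅ Coh.structureModule _) :=
    ⟨(Scheme.Modules.pullbackComp i gT).app L ≪≫ w⟩
  have key := trivial_of_smallExt E D hX' hY' (AmpleDevLib.isInvertible_pb gT hL) σ' hσ'
    u' (pullback.lift_fst _ _ _) v' (pullback.lift_fst _ _ _) (pullback.lift_snd _ _ _)
    (trivial_of_comp_eq eu h1) (trivial_of_comp_eq ev h2) T h3
  exact (hiff _ _ _ _ _ H).2 (stratSq_of_trivial (univO_fst_comp f g hf hg) H key)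

set_option backward.isDefEq.respectTransparency false in
/-- **Triviality near a point**. -/
theorem trivial_near_point (hf : UnivO f) (hg : UnivO g) (σ : S ⟶ X) (hσ : σ ≫ f = 𝟙 S) (τ : S ⟶ Y)
    (hτ : τ ≫ g = 𝟙 S) (s : S) {L : (pullback f g).Modules} (hL : PicF.IsInvertible L)
    (u : X ⟶ pullback f g) (hu1 : u ≫ pullback.fst f g = 𝟙 X) (hu2 : u ≫ pullback.snd f g = f ≫ τ)
    (v : Y ⟶ pullback f g) (hv1 : v ≫ pullback.fst f g = g ≫ σ) (hv2 : v ≫ pullback.snd f g = 𝟙 Y)
    (h1 : Nonempty ((Scheme.Modules.pullback u).obj L ≅ Coh.structureModule X))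
    (h2 : Nonempty ((Scheme.Modules.pullback v).obj L ≅ Coh.structureModule Y))
    (h3 : Nonempty ((Scheme.Modules.pullback ((pullback.fst f g ≫ f).fiberι s)).obj L ≅
      Coh.structureModule ((pullback.fst f g ≫ f).fiber s))) :
    ∃ U : S.Opens, s ∈ U ∧ Nonempty (L.restrict ((pullback.fst f g ≫ f) ⁻¹ᵁ U).ι ≅
      Coh.structureModule ((pullback.fst f g ≫ f) ⁻¹ᵁ U).toScheme) := by
  classical
  let π := pullback.fst f g ≫ f
  have : IsProper π := inferInstance
  have : Flat π := inferInstance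
  have : LocallyOfFinitePresentation π := inferInstance
  have hπ : UnivO π := univO_fst_comp f g hf hg
  obtain ⟨hQ, hfp, hfl⟩ := CohCmpLib.rank_one_hyps π ((CohCmpLib.invertible_iff_rank_one L).1 hL)
  obtain ⟨Z, ι, hι, hι1, -, -, hiff, hrange⟩ := CohCmpLib.exists_strat 1 hfp hfl
  have hs : s ∈ Set.range ι := by
    rw [hrange]; exact CohCmpLib.fiberRank_eq_one π (finrank_fibre hπ) s h3
  obtain ⟨V, hV, hsV, hVle⟩ := exists_isAffineOpen_mem_and_subset (U := ι.coborderRange) (subset_coborder hs)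
  let A := Γ(S, V)
  let j : Spec A ⟶ S := hV.fromSpec
  let c := pullback.snd ι j
  have hcr : Set.range c = j ⁻¹' Set.range ι := Scheme.Pullback.range_snd _ _
  have hc : IsClosedImmersion c := by
    refine IsClosedImmersion.of_isPreimmersion c ?_
    have : j ⁻¹' Set.range ι = j ⁻¹' closure (Set.range ι) := Set.ext fun x =>
      ⟨fun h => subset_closure h, fun h => by
        have hx : j x ∈ coborder (Set.range ι) :=
          hVle (hV.range_fromSpec.subset (Set.mem_range_self x))
        exact (coborder_inter_closure (s := Set.range ι)).subset ⟨hx, h⟩⟩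
    rw [hcr, this]
    exact isClosed_closure.preimage j.continuous
  have : LocallyOfFinitePresentation c := MorphismProperty.pullback_snd _ _ hι1
  obtain ⟨I, e, he⟩ := IsClosedImmersion.Spec_iff.1 hc
  have hfg : I.FG := by
    have h : LocallyOfFinitePresentation (Spec.map (CommRingCat.ofHom (Ideal.Quotient.mk I))) := by
      rw [show Spec.map (CommRingCat.ofHom (Ideal.Quotient.mk I)) = e.inv ≫ c by rw [he, Iso.inv_hom_id_assoc]]
      infer_instance
    have hfp' : (Ideal.Quotient.mk I).FinitePresentation := (LocallyOfFinitePresentation.SpecMap_iff _).1 h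
    have : Algebra.FinitePresentation A (A ⧸ I) := by
      rw [← RingHom.finitePresentation_algebraMap, Ideal.Quotient.algebraMap_eq]; exact hfp'
    have := Algebra.FinitePresentation.ker_fG_of_surjective (Algebra.ofId A (A ⧸ I)) Ideal.Quotient.mk_surjective
    change (RingHom.ker (Ideal.Quotient.mk I)).FG at this
    rwa [Ideal.mk_ker] at this
  have hfac : ∀ {B : Type u} [CommRing B] (φ : A →+* B),
      (∃ l : Spec (CommRingCat.of B) ⟶ Z, l ≫ ι = Spec.map (CommRingCat.ofHom φ) ≫ j) ↔ I.map φ = ⊥ := by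
    intro B _ φ
    rw [Ideal.map_eq_bot_iff_le_ker]
    constructor
    · rintro ⟨l, hl⟩ x hx
      let l' : Spec (CommRingCat.of B) ⟶ pullback ι j := pullback.lift l (Spec.map (CommRingCat.ofHom φ)) hl
      obtain ⟨ψ, hψ⟩ := Spec.map_surjective (l' ≫ e.hom)
      have h : Spec.map (CommRingCat.ofHom φ) = Spec.map (CommRingCat.ofHom (Ideal.Quotient.mk I) ≫ ψ) := by
        rw [Spec.map_comp, hψ, Category.assoc, ← he]
        exact (pullback.lift_snd _ _ _).symm
      rw [RingHom.mem_ker]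
      refine (congrArg (fun k => k.hom x) (Spec.map_inj.1 h)).trans ?_
      exact (congrArg ψ.hom (Ideal.Quotient.eq_zero_iff_mem.2 hx)).trans (map_zero _)
    · intro h
      refine ⟨Spec.map (CommRingCat.ofHom (Ideal.Quotient.lift I φ h)) ≫ e.inv ≫ pullback.fst ι j, ?_⟩
      have h1 : Spec.map (CommRingCat.ofHom (Ideal.Quotient.lift I φ h)) ≫ Spec.map (CommRingCat.ofHom (Ideal.Quotient.mk I)) =
          Spec.map (CommRingCat.ofHom φ) := by
        rw [← Spec.map_comp, ← CommRingCat.ofHom_comp, Ideal.Quotient.lift_comp_mk]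
      rw [Category.assoc, Category.assoc, pullback.condition, ← Category.assoc e.inv, show e.inv ≫ pullback.snd ι j =
        Spec.map (CommRingCat.ofHom (Ideal.Quotient.mk I)) from (Iso.inv_comp_eq e).2 he, ← Category.assoc, h1]
  let p : PrimeSpectrum A := hV.primeIdealOf ⟨s, hsV⟩
  have hjp : j p = s := hV.fromSpec_primeIdealOf ⟨s, hsV⟩
  have hIp : I ≤ p.asIdeal := by
    obtain ⟨y, hy⟩ : p ∈ Set.range c := by rw [hcr]; exact (Set.mem_preimage).2 (hjp ▸ hs)
    rw [← hy, he, Scheme.Hom.comp_apply]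
    exact fun x hx => show Ideal.Quotient.mk I x ∈ _ from
      (Ideal.Quotient.eq_zero_iff_mem.2 hx).symm ▸ Submodule.zero_mem _
  let R := Localization.AtPrime p.asIdeal
  have hIR : I.map (algebraMap A R) = ⊥ := by
    by_contra hne
    have hm : I.map (algebraMap A R) ≤ IsLocalRing.maximalIdeal R :=
      (Ideal.map_mono hIp).trans (Localization.AtPrime.map_eq_maximalIdeal).le
    obtain ⟨J, hJloc, E, hJI, hE⟩ := exists_soc_quotient (hfg.map _) hne hm
    let φ : A →+* R ⧸ J := (Ideal.Quotient.mk J).comp (algebraMap A R)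
    let t := Spec.map (CommRingCat.ofHom φ) ≫ j
    have hIφ : I.map φ = Ideal.span {E.ε} := by rw [← hE, Ideal.map_map]
    have ht : t (IsLocalRing.closedPoint (R ⧸ J)) = s := by
      rw [Scheme.Hom.comp_apply, ← hjp]
      congr 1
      have : IsLocalHom (Ideal.Quotient.mk J) := IsLocalHom.of_surjective _ Ideal.Quotient.mk_surjective
      refine (PrimeSpectrum.comap_comp_apply (algebraMap A R) (Ideal.Quotient.mk J) _).trans ?_
      rw [IsLocalRing.comap_closedPoint]
      exact PrimeSpectrum.ext (Localization.AtPrime.comap_maximalIdeal)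
    have hl := lifts_soc f g hf hg σ hσ τ hτ hL u hu1 hu2 v hv1 hv2 h1 h2 ι hiff E t (by
      have hker : I.map ((Ideal.Quotient.mk (Ideal.span {E.ε})).comp φ) = ⊥ := by
        rw [← Ideal.map_map, hIφ, Ideal.map_quotient_self]
      obtain ⟨l, hl⟩ := (hfac _).2 hker
      exact ⟨l, hl.trans (by rw [CommRingCat.ofHom_comp, Spec.map_comp, Category.assoc])⟩) (by rw [ht]; exact h3)
    exact E.ne_zero (Ideal.span_singleton_eq_bot.1 (hIφ.symm.trans ((hfac φ).1 hl)))
  obtain ⟨a, hap, ha⟩ : ∃ a ∉ p.asIdeal, ∀ x ∈ I, a * x = 0 := by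
    obtain ⟨G, hG⟩ := hfg
    have h : ∀ x ∈ G, ∃ a : p.asIdeal.primeCompl, (a : A) * x = 0 := fun x hx =>
      (IsLocalization.map_eq_zero_iff p.asIdeal.primeCompl R x).1 (Ideal.mem_bot.1
        (hIR ▸ Ideal.mem_map_of_mem _ (hG ▸ Submodule.subset_span hx)))
    choose a ha using h
    refine ⟨∏ x ∈ G.attach, (a x.1 x.2 : A), ?_, fun y hy => ?_⟩
    · exact (prod_mem fun x _ => (a x.1 x.2).2 : ∏ x ∈ G.attach, (a x.1 x.2 : A) ∈ p.asIdeal.primeCompl)
    · rw [← hG] at hy
      induction hy using Submodule.span_induction with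
      | mem x hx =>
        obtain ⟨d, hd⟩ := Finset.dvd_prod_of_mem (fun x : {x // x ∈ G} => (a x.1 x.2 : A))
          (Finset.mem_attach _ ⟨x, hx⟩)
        rw [hd, mul_comm _ d, mul_assoc, ha x hx, mul_zero]
      | zero => rw [mul_zero]
      | add x y _ _ hx hy => rw [mul_add, hx, hy, add_zero]
      | smul b x _ hx => rw [smul_eq_mul, mul_left_comm, hx, mul_zero]
  let t : Spec (CommRingCat.of (Localization.Away a)) ⟶ S :=
    Spec.map (CommRingCat.ofHom (algebraMap A (Localization.Away a))) ≫ j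
  have : IsOpenImmersion (Spec.map (CommRingCat.ofHom (algebraMap A (Localization.Away a)))) :=
    IsOpenImmersion.of_isLocalization a
  obtain ⟨z, hz⟩ : ∃ z, t z = s := by
    obtain ⟨z, hz⟩ : p ∈ Set.range (PrimeSpectrum.comap (algebraMap A (Localization.Away a))) := by
      rw [PrimeSpectrum.localization_away_comap_range (Localization.Away a) a]; exact hap
    exact ⟨z, by rw [Scheme.Hom.comp_apply, ← hjp]; exact congrArg j hz⟩
  let fT := pullback.snd π t
  let gT := pullback.fst π t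
  have H : IsPullback gT fT π t := IsPullback.of_hasPullback _ _
  have hst : CohCmpLib.StratSq L 1 fT gT := (hiff _ _ _ _ _ H).1 ((hfac _).2 (by
    rw [Ideal.map_eq_bot_iff_le_ker]
    intro x hx
    refine (IsLocalization.map_eq_zero_iff (Submonoid.powers a) _ x).2 ⟨⟨a, Submonoid.mem_powers a⟩, ?_⟩
    exact ha x hx))
  obtain ⟨U', hzU', hU'⟩ := CohCmpLib.exists_trivial_near fT (AmpleDevLib.isInvertible_pb gT hL) z
    (fibre_trivial_of_isPullback H z (by rw [hz]; exact h3)) (epi_bc0_of_stratSq (π := π) hst z)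
  refine ⟨t ''ᵁ U', ⟨z, hzU', hz⟩, ?_⟩
  let W := π ⁻¹ᵁ (t ''ᵁ U')
  have hsub : Set.range W.ι ⊆ Set.range ((fT ⁻¹ᵁ U').ι ≫ gT) := by
    rw [Scheme.Opens.range_ι]
    intro x hx
    obtain ⟨w, hw, hwx⟩ := hx
    obtain ⟨y, hy⟩ : x ∈ Set.range gT := by rw [Scheme.Pullback.range_fst]; exact ⟨w, hwx⟩
    have : fT y = w := t.isOpenEmbedding.injective (by
      refine Eq.trans ?_ hwx.symm
      rw [← hy, ← Scheme.Hom.comp_apply, ← Scheme.Hom.comp_apply, H.w])
    exact ⟨⟨y, show fT y ∈ U' from this ▸ hw⟩, hy⟩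
  have hl : IsOpenImmersion.lift ((fT ⁻¹ᵁ U').ι ≫ gT) W.ι hsub ≫ ((fT ⁻¹ᵁ U').ι ≫ gT) = W.ι :=
    IsOpenImmersion.lift_fac _ _ hsub
  have hU'' : Nonempty ((Scheme.Modules.pullback ((fT ⁻¹ᵁ U').ι ≫ gT)).obj L ≅ Coh.structureModule _) :=
    ⟨((Scheme.Modules.pullbackComp _ gT).app L).symm ≪≫
      ((Scheme.Modules.restrictFunctorIsoPullback _).app _).symm ≪≫ hU'.some⟩
  obtain ⟨k⟩ := trivial_pullback (g := IsOpenImmersion.lift ((fT ⁻¹ᵁ U').ι ≫ gT) W.ι hsub) hU''
  exact ⟨(Scheme.Modules.restrictFunctorIsoPullback _).app L ≪≫ (Scheme.Modules.pullbackCongr hl.symm).app L ≪≫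
    ((Scheme.Modules.pullbackComp _ _).app L).symm ≪≫ k⟩

end CubeLib
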