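import Groth.Agent.CohCmpLib.FibreStalk

/-!
Rings of sections of schemes over an affine base, of fibre products and of thickenings.
-/

set_option autoImplicit false
set_option maxRecDepth 8000

noncomputable section

universe u

open CategoryTheory CategoryTheory.Limits AlgebraicGeometry TopologicalSpace Opposite
open scoped TensorProduct

namespace CubeLib

variable {R : Type u} [CommRing R]

/-- The structure map on sections. -/
def algMor (X : Scheme.{u}) [X.Over (Spec (CommRingCat.of R))] (U : X.Opens) : CommRingCat.of R ⟶ Γ(X, U) :=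
  (Scheme.ΓSpecIso (CommRingCat.of R)).inv ≫ (X ↘ Spec (CommRingCat.of R)).appLE ⊤ U le_top

/-- Sections as algebras over the base ring. -/
@[reducible] def algSec (X : Scheme.{u}) [X.Over (Spec (CommRingCat.of R))] (U : X.Opens) : Algebra R Γ(X, U) :=
  (algMor X U).hom.toAlgebra

attribute [local instance] algSec

variable {X Y : Scheme.{u}} [X.Over (Spec (CommRingCat.of R))] [Y.Over (Spec (CommRingCat.of R))]

theorem algMor_appLE (g : Y ⟶ X) (hg : g ≫ X ↘ Spec (CommRingCat.of R) = Y ↘ Spec (CommRingCat.of R))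
    (U : X.Opens) (V : Y.Opens) (h : V ≤ g ⁻¹ᵁ U) : algMor X U ≫ g.appLE U V h = algMor (R := R) Y V := by
  rw [algMor, algMor, Category.assoc, Scheme.Hom.appLE_comp_appLE]
  simp_rw [hg]

/-- Pullback of functions as an algebra map. -/
def pullAlg (g : Y ⟶ X) (hg : g ≫ X ↘ Spec (CommRingCat.of R) = Y ↘ Spec (CommRingCat.of R))
    (U : X.Opens) (V : Y.Opens) (h : V ≤ g ⁻¹ᵁ U) : Γ(X, U) →ₐ[R] Γ(Y, V) where
  __ := (g.appLE U V h).hom
  commutes' r := congr($(algMor_appLE g hg U V h) r)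

theorem pullAlg_apply (g : Y ⟶ X) (hg : g ≫ X ↘ Spec (CommRingCat.of R) = Y ↘ Spec (CommRingCat.of R))
    (U : X.Opens) (V : Y.Opens) (h : V ≤ g ⁻¹ᵁ U) (a : Γ(X, U)) : pullAlg g hg U V h a = g.appLE U V h a := rfl

/-- Restriction of functions as an algebra map. -/
def resAlg {U V : X.Opens} (h : V ≤ U) : Γ(X, U) →ₐ[R] Γ(X, V) where
  __ := (X.presheaf.map (homOfLE h).op).hom
  commutes' r := by
    change X.presheaf.map (homOfLE h).op (algMor (R := R) X U r) = algMor (R := R) X V r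
    rw [algMor, algMor, ← ConcreteCategory.comp_apply, Category.assoc, Scheme.Hom.appLE_map]

theorem resAlg_apply {U V : X.Opens} (h : V ≤ U) (a : Γ(X, U)) :
    resAlg (R := R) h a = X.presheaf.map (homOfLE h).op a := rfl

theorem flat_sec [Flat (X ↘ Spec (CommRingCat.of R))] {U : X.Opens} (hU : IsAffineOpen U) :
    Module.Flat R Γ(X, U) := by
  refine RingHom.flat_algebraMap_iff.1 ?_
  change (algMor X U).hom.Flat
  rw [algMor, CommRingCat.hom_comp]
  exact (RingHom.Flat.of_bijective (ConcreteCategory.bijective_of_isIso (Scheme.ΓSpecIso (CommRingCat.of R)).inv)).comp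
    ((X ↘ Spec (CommRingCat.of R)).flat_appLE (isAffineOpen_top _) hU le_top)

section box

variable {P : Scheme.{u}} [P.Over (Spec (CommRingCat.of R))] {pX : P ⟶ X} {pY : P ⟶ Y}
  (H : IsPullback pX pY (X ↘ Spec (CommRingCat.of R)) (Y ↘ Spec (CommRingCat.of R)))

/-- The product of two opens. -/
abbrev box (pX : P ⟶ X) (pY : P ⟶ Y) (U : X.Opens) (V : Y.Opens) : P.Opens := pX ⁻¹ᵁ U ⊓ pY ⁻¹ᵁ V

theorem box_mono {U U' : X.Opens} {V V' : Y.Opens} (hU : U' ≤ U) (hV : V' ≤ V) :
    box pX pY U' V' ≤ box pX pY U V := inf_le_inf (pX.preimage_mono hU) (pY.preimage_mono hV)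

variable (hP : pX ≫ X ↘ Spec (CommRingCat.of R) = P ↘ Spec (CommRingCat.of R))
  (hP' : pY ≫ Y ↘ Spec (CommRingCat.of R) = P ↘ Spec (CommRingCat.of R))

/-- Products of functions. -/
def boxMul (U : X.Opens) (V : Y.Opens) : Γ(X, U) ⊗[R] Γ(Y, V) →ₐ[R] Γ(P, box pX pY U V) :=
  Algebra.TensorProduct.lift (pullAlg pX hP U _ inf_le_left) (pullAlg pY hP' V _ inf_le_right)
    fun _ _ => Commute.all _ _

theorem boxMul_tmul (U : X.Opens) (V : Y.Opens) (a : Γ(X, U)) (b : Γ(Y, V)) :
    boxMul hP hP' U V (a ⊗ₜ b) = pX.appLE U _ inf_le_left a * pY.appLE V _ inf_le_right b :=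
  Algebra.TensorProduct.lift_tmul _ _ _ _ _

theorem boxMul_res {U U' : X.Opens} {V V' : Y.Opens} (hU : U' ≤ U) (hV : V' ≤ V) (t : Γ(X, U) ⊗[R] Γ(Y, V)) :
    boxMul hP hP' U' V' (TensorProduct.map (resAlg hU).toLinearMap (resAlg hV).toLinearMap t) =
      P.presheaf.map (homOfLE (box_mono (pX := pX) (pY := pY) hU hV)).op (boxMul hP hP' U V t) := by
  induction t using TensorProduct.induction_on with
  | zero => simp only [map_zero]
  | add a b ha hb => simp only [map_add, ha, hb]
  | tmul a b =>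
    rw [TensorProduct.map_tmul, boxMul_tmul, boxMul_tmul, map_mul]
    change pX.appLE U' _ _ (X.presheaf.map (homOfLE hU).op a) * pY.appLE V' _ _ (Y.presheaf.map (homOfLE hV).op b) = _
    rw [← ConcreteCategory.comp_apply, ← ConcreteCategory.comp_apply, Scheme.Hom.map_appLE, Scheme.Hom.map_appLE,
      ← ConcreteCategory.comp_apply, ← ConcreteCategory.comp_apply, Scheme.Hom.appLE_map, Scheme.Hom.appLE_map]

include H in
theorem boxMul_bijective {U : X.Opens} {V : Y.Opens} (hU : IsAffineOpen U) (hV : IsAffineOpen V) :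
    Function.Bijective (boxMul hP hP' U V) := by
  let B := Γ(P, box pX pY U V)
  have h1 := (isIso_pushoutSection_iff H (US := ⊤) (UT := V) (UX := U) le_top le_top
    (UY := box pX pY U V) rfl).1 (isIso_pushoutSection_of_isAffineOpen H le_top le_top rfl (isAffineOpen_top _) hV hU)
  have e := Scheme.ΓSpecIso (CommRingCat.of R)
  have h2 : IsPushout (algMor (R := R) X U) (algMor (R := R) Y V) (pX.appLE U (box pX pY U V) inf_le_left)
      (pY.appLE V (box pX pY U V) inf_le_right) :=
    h1.of_iso (Scheme.ΓSpecIso (CommRingCat.of R)) (Iso.refl _) (Iso.refl _) (Iso.refl _)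
      (by simp [algMor]) (by simp [algMor]) (by simp) (by simp)
  let : Algebra Γ(X, U) B := (pX.appLE U (box pX pY U V) inf_le_left).hom.toAlgebra
  let : Algebra Γ(Y, V) B := (pY.appLE V (box pX pY U V) inf_le_right).hom.toAlgebra
  have : IsScalarTower R Γ(X, U) B := IsScalarTower.of_algebraMap_eq' (pullAlg pX hP U _ inf_le_left).comp_algebraMap.symm
  have : IsScalarTower R Γ(Y, V) B := IsScalarTower.of_algebraMap_eq' (pullAlg pY hP' V _ inf_le_right).comp_algebraMap.symm
  have hpo : Algebra.IsPushout R Γ(X, U) Γ(Y, V) B := CommRingCat.isPushout_iff_isPushout.1 h2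
  have key : ⇑(boxMul hP hP' U V) = ⇑(Algebra.IsPushout.equiv R Γ(X, U) Γ(Y, V) B) := funext fun t => by
    induction t using TensorProduct.induction_on with
    | zero => simp only [map_zero]
    | add a b ha hb => simp only [map_add, ha, hb]
    | tmul a b => rw [boxMul_tmul, Algebra.IsPushout.equiv_tmul]; rfl
  rw [key]
  exact (Algebra.IsPushout.equiv R Γ(X, U) Γ(Y, V) B).bijective

end box

/-- Functions on a thickening are functions modulo the ideal. -/
theorem thickening_sec (I : Ideal R) {Z : Scheme.{u}} {i : Z ⟶ X} {q : Z ⟶ Spec (CommRingCat.of (R ⧸ I))}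
    (H : IsPullback i q (X ↘ Spec (CommRingCat.of R)) (Spec.map (CommRingCat.ofHom (Ideal.Quotient.mk I))))
    {U : X.Opens} (hU : IsAffineOpen U) :
    IsAffineOpen (i ⁻¹ᵁ U) ∧ Function.Surjective (i.app U) ∧
      ∀ r, i.app U r = 0 → r ∈ I • (⊤ : Submodule R Γ(X, U)) := by
  let : (Spec (CommRingCat.of (R ⧸ I))).Over (Spec (CommRingCat.of R)) :=
    ⟨Spec.map (CommRingCat.ofHom (Ideal.Quotient.mk I))⟩
  let : Z.Over (Spec (CommRingCat.of R)) := ⟨i ≫ X ↘ Spec (CommRingCat.of R)⟩
  have haff : IsAffineHom i := MorphismProperty.of_isPullback H.flip (inferInstanceAs (IsAffineHom (Spec.map _)))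
  refine ⟨hU.preimage i, ?_⟩
  let T := Γ(Spec (CommRingCat.of (R ⧸ I)), ⊤)
  have hb := boxMul_bijective (pX := i) (pY := q) H rfl H.w.symm hU (isAffineOpen_top _)
  have hsT : Function.Surjective (algebraMap R T) := fun z => by
    obtain ⟨b, rfl⟩ := (ConcreteCategory.bijective_of_isIso ((Scheme.ΓSpecIso (CommRingCat.of (R ⧸ I))).inv)).2 z
    obtain ⟨a, rfl⟩ := Ideal.Quotient.mk_surjective b
    refine ⟨a, ?_⟩
    change ((Scheme.ΓSpecIso (CommRingCat.of R)).inv ≫
      (Spec.map (CommRingCat.ofHom (Ideal.Quotient.mk I))).appTop) a = _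
    rw [← Scheme.ΓSpecIso_inv_naturality]
    rfl
  have hker : RingHom.ker (algebraMap R T) = I := by
    ext a
    rw [RingHom.mem_ker, ← Ideal.Quotient.eq_zero_iff_mem]
    change (((Scheme.ΓSpecIso (CommRingCat.of R)).inv ≫
      (Spec.map (CommRingCat.ofHom (Ideal.Quotient.mk I))).appTop) a) = 0 ↔ _
    rw [← Scheme.ΓSpecIso_inv_naturality]
    exact ⟨fun h => (ConcreteCategory.bijective_of_isIso ((Scheme.ΓSpecIso (CommRingCat.of (R ⧸ I))).inv)).1
      (h.trans (map_zero _).symm), fun h => (congrArg (Scheme.ΓSpecIso (CommRingCat.of (R ⧸ I))).inv.hom h).trans (map_zero _)⟩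
  have hle : box i q U ⊤ = i ⁻¹ᵁ U := by simp [box]
  have hres : Function.Bijective (Z.presheaf.map (eqToHom hle).op) := ConcreteCategory.bijective_of_isIso _
  have key : ∀ a : Γ(X, U), boxMul (pX := i) (pY := q) rfl H.w.symm U ⊤ (a ⊗ₜ 1) =
      Z.presheaf.map (eqToHom hle).op (i.app U a) := fun a => by
    rw [boxMul_tmul, map_one, mul_one, Scheme.Hom.appLE, ConcreteCategory.comp_apply]
    rfl
  have hsurj : Function.Surjective fun a : Γ(X, U) => a ⊗ₜ[R] (1 : T) := fun t => by
    obtain ⟨a, ha⟩ := TensorProduct.mk_surjective R Γ(X, U) T hsT (TensorProduct.comm R _ _ t)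
    refine ⟨a, (TensorProduct.comm R Γ(X, U) T).injective ?_⟩
    rw [← ha]
    rfl
  refine ⟨fun z => ?_, fun r hr => ?_⟩
  · obtain ⟨t, ht⟩ := hb.2 (Z.presheaf.map (eqToHom hle).op z)
    obtain ⟨a, rfl⟩ := hsurj t
    exact ⟨a, hres.1 ((key a).symm.trans ht)⟩
  · have h0 : r ⊗ₜ[R] (1 : T) = 0 := hb.1 ((key r).trans (by rw [hr, map_zero, map_zero]))
    have h1 : (1 : T) ⊗ₜ[R] r = 0 := by
      have := congrArg (TensorProduct.comm R Γ(X, U) T) h0
      rwa [map_zero, TensorProduct.comm_tmul] at this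
    rw [CohCmpLib.one_tmul_eq_zero_iff hsT, hker] at h1
    exact h1

end CubeLib
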