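import Groth.Agent.CubeLib.Classes

/-!
The obstruction classes restricted to a slice.
-/

set_option autoImplicit false
set_option maxRecDepth 8000
set_option maxHeartbeats 1000000

noncomputable section

universe u

open CategoryTheory CategoryTheory.Limits AlgebraicGeometry TopologicalSpace Opposite
open scoped TensorProduct
open AmpleLib (GenOn res)
open KFlatLib (pb puSecLE)
open IsLocalRing (maximalIdeal)

namespace CubeLib

variable {R : Type u} [CommRing R] [IsLocalRing R]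
variable {X Y P : Scheme.{u}} [X.Over (Spec (CommRingCat.of R))] [Y.Over (Spec (CommRingCat.of R))]
  [P.Over (Spec (CommRingCat.of R))]

attribute [local instance] algSec

omit [IsLocalRing R] in
theorem lid_rTensor_lTensor {A M N : Type u} [AddCommGroup A] [Module R A] [AddCommGroup M] [Module R M]
    [AddCommGroup N] [Module R N] (g : A →ₗ[R] R) (f : M →ₗ[R] N) (t : A ⊗[R] M) :
    TensorProduct.lid R N (g.rTensor N (f.lTensor A t)) = f (TensorProduct.lid R M (g.rTensor M t)) := by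
  induction t using TensorProduct.induction_on with
  | zero => simp only [map_zero]
  | add a b ha hb => simp only [map_add, ha, hb]
  | tmul a m => simp [TensorProduct.lid_tmul]

theorem appLE_id {W : Y.Opens} (g : Y ⟶ Y) (hg : g = 𝟙 Y) (h : W ≤ g ⁻¹ᵁ W) (x : Γ(Y, W)) : g.appLE W W h x = x := by
  subst hg
  rw [Scheme.Hom.appLE]
  exact congr($(Y.presheaf.map_id _) x)

/-- Evaluation of functions at a section. -/
def evalAlg (σ : Spec (CommRingCat.of R) ⟶ X) (hσ : σ ≫ X ↘ Spec (CommRingCat.of R) = 𝟙 _) (U : X.Opens)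
    (hU : (⊤ : (Spec (CommRingCat.of R)).Opens) ≤ σ ⁻¹ᵁ U) : Γ(X, U) →ₐ[R] R where
  __ := (σ.appLE U ⊤ hU ≫ (Scheme.ΓSpecIso (CommRingCat.of R)).hom).hom
  commutes' r := by
    change (Scheme.ΓSpecIso (CommRingCat.of R)).hom (σ.appLE U ⊤ hU (algMor (R := R) X U r)) = r
    rw [algMor, ← ConcreteCategory.comp_apply, ← ConcreteCategory.comp_apply]
    simp only [Category.assoc]
    erw [Scheme.Hom.appLE_comp_appLE_assoc]
    rw [ConcreteCategory.comp_apply, ConcreteCategory.comp_apply, appLE_id (W := ⊤) _ hσ]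
    exact congr($((Scheme.ΓSpecIso (CommRingCat.of R)).inv_hom_id) r)

variable (E : Soc R) {pX : P ⟶ X} {pY : P ⟶ Y} (D : Prod (R := R) pX pY)
  (σ : Spec (CommRingCat.of R) ⟶ X) (hσ : σ ≫ X ↘ Spec (CommRingCat.of R) = 𝟙 _)
  (v : Y ⟶ P) (hv₁ : v ≫ pX = Y ↘ Spec (CommRingCat.of R) ≫ σ) (hv₂ : v ≫ pY = 𝟙 Y)

include hv₁ hv₂ in
theorem le_slice {U : X.Opens} (hU : (⊤ : (Spec (CommRingCat.of R)).Opens) ≤ σ ⁻¹ᵁ U) (W : Y.Opens) :
    W ≤ v ⁻¹ᵁ box pX pY U W := fun y hy => by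
  refine ⟨?_, ?_⟩
  · change (v ≫ pX) y ∈ U
    rw [hv₁]
    exact hU (show (Y ↘ Spec (CommRingCat.of R)) y ∈ (⊤ : (Spec (CommRingCat.of R)).Opens) from trivial)
  · change (v ≫ pY) y ∈ W
    rw [hv₂]
    exact hy

theorem slice_bx {U : X.Opens} (hU : (⊤ : (Spec (CommRingCat.of R)).Opens) ≤ σ ⁻¹ᵁ U) (W : Y.Opens)
    (t : Γ(X, U) ⊗[R] Red (R := R) Γ(Y, W)) :
    v.appLE (box pX pY U W) W (le_slice σ v hv₁ hv₂ hU W) (bx E D U W t) =
      E.θ Γ(Y, W) (TensorProduct.lid R _ ((evalAlg σ hσ U hU).toLinearMap.rTensor _ t)) := by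
  induction t using TensorProduct.induction_on with
  | zero => simp only [map_zero]
  | add a b ha hb => simp only [map_add, ha, hb]
  | tmul a x =>
    rw [LinearMap.rTensor_tmul, TensorProduct.lid_tmul, map_smul]
    change v.appLE _ W _ (boxMul D.hP D.hP' U W (a ⊗ₜ E.θ Γ(Y, W) x)) = _
    rw [boxMul_tmul, map_mul, ← ConcreteCategory.comp_apply, ← ConcreteCategory.comp_apply,
      Scheme.Hom.appLE_comp_appLE, Scheme.Hom.appLE_comp_appLE]
    refine Eq.trans ?_ (Algebra.smul_def _ _).symm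
    congr 1
    · simp_rw [hv₁]
      rw [← Scheme.Hom.appLE_comp_appLE (Y ↘ Spec (CommRingCat.of R)) σ U ⊤ W hU le_top]
      change _ = algMor (R := R) Y W ((Scheme.ΓSpecIso (CommRingCat.of R)).hom (σ.appLE U ⊤ hU a))
      rw [algMor, ← ConcreteCategory.comp_apply, ← ConcreteCategory.comp_apply]
      simp only [Category.assoc, Iso.hom_inv_id_assoc]
    · exact appLE_id (v ≫ pY) hv₂ _ _

/-- Unit sections of the second factor, constant modulo the socle element. -/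
theorem exists_const (hY : UnivO (Y ↘ Spec (CommRingCat.of R))) {J : Type u} (V : J → Y.Opens)
    (hcov : ∀ y : Y, ∃ j, y ∈ V j) (hV : ∀ j, IsAffineOpen (V j)) (f : ∀ j, Γ(Y, V j))
    (hf : ∀ a c, ∃ w, Y.presheaf.map (homOfLE (inf_le_right : V a ⊓ V c ≤ V c)).op (f c) -
      Y.presheaf.map (homOfLE (inf_le_left : V a ⊓ V c ≤ V a)).op (f a) = E.ε • w) :
    ∃ r : R, ∀ j, ∃ b, f j = algebraMap R Γ(Y, V j) r + E.ε • b := by
  let I : Ideal R := Ideal.span {E.ε}
  let iY := pullback.fst (Y ↘ Spec (CommRingCat.of R)) (Spec.map (CommRingCat.ofHom (Ideal.Quotient.mk I)))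
  let qY := pullback.snd (Y ↘ Spec (CommRingCat.of R)) (Spec.map (CommRingCat.ofHom (Ideal.Quotient.mk I)))
  have H : IsPullback iY qY (Y ↘ Spec (CommRingCat.of R)) (Spec.map (CommRingCat.ofHom (Ideal.Quotient.mk I))) :=
    IsPullback.of_hasPullback _ _
  have T : Thick E.ε iY := ⟨⟨qY, H⟩, E.mul_eq_zero _ E.mem⟩
  let : (pullback (Y ↘ Spec (CommRingCat.of R)) (Spec.map (CommRingCat.ofHom (Ideal.Quotient.mk I)))).Over
    (Spec (CommRingCat.of R)) := ⟨iY ≫ Y ↘ Spec (CommRingCat.of R)⟩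
  let g := fun j => iY.app (V j) (f j)
  obtain ⟨s, hs, -⟩ := TopCat.Sheaf.existsUnique_gluing' (X := (pullback (Y ↘ Spec (CommRingCat.of R))
    (Spec.map (CommRingCat.ofHom (Ideal.Quotient.mk I)))).toTopCat)
    (pullback (Y ↘ Spec (CommRingCat.of R)) (Spec.map (CommRingCat.ofHom (Ideal.Quotient.mk I)))).sheaf
    (fun j => iY ⁻¹ᵁ V j) ⊤ (fun j => homOfLE le_top) (fun y _ => Opens.mem_iSup.2 (hcov (iY y))) g fun a c => by
      obtain ⟨w, hw⟩ := hf a c
      have h1 := congrArg (iY.app (V a ⊓ V c)) hw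
      rw [map_sub, show iY.app (V a ⊓ V c) (E.ε • w) = 0 by rw [Scheme.Hom.app_eq_appLE]; exact T.app_smul le_rfl w,
        sub_eq_zero, ← ConcreteCategory.comp_apply, ← ConcreteCategory.comp_apply, iY.naturality, iY.naturality,
        ConcreteCategory.comp_apply, ConcreteCategory.comp_apply] at h1
      exact h1.symm
  have := hY _ _ _ _ _ H (⊤ : (Spec (CommRingCat.of (R ⧸ I))).Opens)
  obtain ⟨r', hr'⟩ := (ConcreteCategory.bijective_of_isIso (qY.app ⊤)).2 s
  obtain ⟨r₁, rfl⟩ := (ConcreteCategory.bijective_of_isIso (Scheme.ΓSpecIso (CommRingCat.of (R ⧸ I))).inv).2 r'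
  obtain ⟨r, rfl⟩ := Ideal.Quotient.mk_surjective r₁
  refine ⟨r, fun j => ?_⟩
  have h2 : iY.app (V j) (algebraMap R Γ(Y, V j) r) = g j := by
    rw [← hs j, ← hr', Scheme.Hom.app_eq_appLE]
    refine congr($(algMor_appLE (R := R) iY rfl (V j) (iY ⁻¹ᵁ V j) le_rfl) r).trans ?_
    change algMor (R := R) _ (iY ⁻¹ᵁ V j) r = _
    rw [algMor, show (pullback (Y ↘ Spec (CommRingCat.of R)) (Spec.map (CommRingCat.ofHom (Ideal.Quotient.mk I))) ↘
      Spec (CommRingCat.of R)) = qY ≫ Spec.map (CommRingCat.ofHom (Ideal.Quotient.mk I)) from H.w,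
      ← Scheme.Hom.appLE_comp_appLE qY _ ⊤ ⊤ (iY ⁻¹ᵁ V j) (fun _ _ => trivial) (fun _ _ => trivial)]
    have e : (Spec.map (CommRingCat.ofHom (Ideal.Quotient.mk I))).appLE ⊤ ⊤ (fun _ _ => trivial) =
        (Spec.map (CommRingCat.ofHom (Ideal.Quotient.mk I))).appTop := by
      rw [Scheme.Hom.appTop, Scheme.Hom.app_eq_appLE]
      rfl
    rw [e, ← Category.assoc, ← Scheme.ΓSpecIso_inv_naturality, Category.assoc]
    rfl
  obtain ⟨b, hb⟩ := (T.sec (hV j)).2.2 (f j - algebraMap R Γ(Y, V j) r) (by rw [map_sub, h2, sub_self])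
  exact ⟨b, sub_eq_iff_eq_add'.1 hb⟩

variable {J : Type u} [Fintype J] [DecidableEq J] {V : J → Y.Opens}
variable {Z : Scheme.{u}} {i : Z ⟶ P} {L : P.Modules} {z : Γ(pb i L, (⊤ : Z.Opens))}
variable [Flat (Y ↘ Spec (CommRingCat.of R))] [Y.IsSeparated] [Coh.IsQCoh L] (T : Thick E.ε i)
  (hL : PicF.IsInvertible L) (hz : GenOn (pb i L) z)

include hσ hv₁ hv₂ T hL hz in
theorem slice_cls (hY : UnivO (Y ↘ Spec (CommRingCat.of R))) (hcov : ∀ y : Y, ∃ j, y ∈ V j)
    (hV : ∀ j, IsAffineOpen (V j))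
    (h₂ : Nonempty ((Scheme.Modules.pullback v).obj L ≅ Coh.structureModule Y))
    {U : X.Opens} (hU : (⊤ : (Spec (CommRingCat.of R)).Opens) ≤ σ ⁻¹ᵁ U)
    {h : Γ(X, U) ⊗[R] H1 (R := R) V} (hh : HasCls E D V i z U h) :
    TensorProduct.lid R _ ((evalAlg σ hσ U hU).toLinearMap.rTensor (H1 (R := R) V) h) = 0 := by
  obtain ⟨e, t, he, hc, rfl⟩ := hh
  obtain ⟨γ, hγ⟩ := exists_genOn_top h₂
  let hle := le_slice σ v hv₁ hv₂ hU
  choose f hf using fun j => (hγ (V j) le_top).2 (puSecLE v L (hle (V j)) (e j))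
  have hfu : ∀ j, IsUnit (f j) := fun j => by
    refine isUnit_of_genOn (hγ.res (le_top : V j ≤ ⊤)) ?_
    rw [show f j • res (pb v L) le_top γ = _ from hf j]
    exact genOn_puSecLE v ((he j).genOn T hL hz) (hle (V j))
  obtain ⟨w, hw0⟩ : ∃ w : C1 (R := R) V, w = TensorProduct.lid R _ ((evalAlg σ hσ U hU).toLinearMap.rTensor _ t) :=
    ⟨_, rfl⟩
  have hw : ∀ p : J × J, Y.presheaf.map (homOfLE (inf_le_right : V p.1 ⊓ V p.2 ≤ V p.2)).op (f p.2) =
      (1 + E.θ _ (w p)) * Y.presheaf.map (homOfLE (inf_le_left : V p.1 ⊓ V p.2 ≤ V p.1)).op (f p.1) := by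
    intro p
    let W := V p.1 ⊓ V p.2
    have h1 := congrArg (puSecLE v L (hle W)) (hc p)
    rw [KFlatLib.puSecLE_smul, puSecLE_res, puSecLE_res, ← res_puSecLE v L (hle (V p.1)) (inf_le_left : W ≤ V p.1),
      ← res_puSecLE v L (hle (V p.2)) (inf_le_right : W ≤ V p.2), ← hf p.1, ← hf p.2, AmpleLib.res_smul,
      AmpleLib.res_smul, AmpleLib.res_res, AmpleLib.res_res, smul_smul, map_add, map_one] at h1
    have h2 := (hγ W le_top).1 h1
    rw [h2]
    congr 2
    change v.appLE _ W _ (bx E D U W ((LinearMap.proj p).lTensor Γ(X, U) t)) = _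
    rw [slice_bx E D σ hσ v hv₁ hv₂ hU W]
    rw [lid_rTensor_lTensor, ← hw0, LinearMap.proj_apply]
  obtain ⟨r, hr⟩ := exists_const E hY V hcov hV f fun a c => by
    obtain ⟨x, hx⟩ := Submodule.Quotient.mk_surjective _ (w (a, c))
    refine ⟨x * Y.presheaf.map (homOfLE (inf_le_left : V a ⊓ V c ≤ V a)).op (f a), ?_⟩
    rw [show Y.presheaf.map (homOfLE (inf_le_right : V a ⊓ V c ≤ V c)).op (f c) = _ from hw (a, c), add_mul,
      one_mul, add_sub_cancel_left, ← hx, show E.θ Γ(Y, V a ⊓ V c) (Submodule.Quotient.mk x) = E.ε • x from rfl,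
      smul_mul_assoc]
  choose b hb using hr
  have hwr : w ∈ LinearMap.range (d0 (R := R) V) := by
    by_cases hru : IsUnit r
    · obtain ⟨r', hr'⟩ := hru.exists_left_inv
      refine ⟨fun j => r' • redMk Γ(Y, V j) (b j), funext fun p => ?_⟩
      have : Module.Flat R Γ(Y, V p.1 ⊓ V p.2) := flat_sec ((hV p.1).inf (hV p.2))
      refine (E.θ_injective (B := Γ(Y, V p.1 ⊓ V p.2))) ?_
      have h2 := hw p
      rw [hb, hb, map_add, map_add] at h2
      change E.θ _ (redMap (resAlg (R := R) (inf_le_right : V p.1 ⊓ V p.2 ≤ V p.2)).toLinearMap (r' • redMk _ (b p.2)) -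
        redMap (resAlg (R := R) (inf_le_left : V p.1 ⊓ V p.2 ≤ V p.1)).toLinearMap (r' • redMk _ (b p.1))) = _
      simp only [map_sub, map_smul, redMap_mk, E.θ_mk]
      have hc₁ : ∀ (j : J) (hj : V p.1 ⊓ V p.2 ≤ V j),
          Y.presheaf.map (homOfLE hj).op (algebraMap R Γ(Y, V j) r) = algebraMap R Γ(Y, V p.1 ⊓ V p.2) r :=
        fun j hj => (resAlg (R := R) hj).commutes r
      have hc₂ : ∀ (j : J) (hj : V p.1 ⊓ V p.2 ≤ V j),
          Y.presheaf.map (homOfLE hj).op (E.ε • b j) = E.ε • resAlg (R := R) hj (b j) :=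
        fun j hj => map_smul (resAlg (R := R) hj) E.ε (b j)
      rw [hc₁, hc₁, hc₂, hc₂] at h2
      obtain ⟨x, hx⟩ := Submodule.Quotient.mk_surjective _ (w p)
      rw [← hx, show E.θ Γ(Y, V p.1 ⊓ V p.2) (Submodule.Quotient.mk x) = E.ε • x from rfl] at h2 ⊢
      have h0 := eps_smul_mul E (a := E.ε • x) (b := E.ε • resAlg (R := R) inf_le_left (b p.1)) ⟨_, rfl⟩ ⟨_, rfl⟩
      simp only [AlgHom.toLinearMap_apply]
      have h3 : algebraMap R Γ(Y, V p.1 ⊓ V p.2) r' * algebraMap R Γ(Y, V p.1 ⊓ V p.2) r = 1 := by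
        rw [← map_mul, hr', map_one]
      simp only [Algebra.smul_def] at h2 h0 ⊢
      linear_combination (algebraMap R Γ(Y, V p.1 ⊓ V p.2) r') * h2 +
        (algebraMap R Γ(Y, V p.1 ⊓ V p.2) r') * h0 + (algebraMap R _ E.ε * x) * h3
    · suffices w = 0 by rw [this]; exact zero_mem _
      funext p
      obtain ⟨x, hx⟩ := Submodule.Quotient.mk_surjective _ (w p)
      rw [← hx]
      refine (Submodule.Quotient.mk_eq_zero _).2 ?_
      let B := Γ(Y, V p.1 ⊓ V p.2)
      let f' := resAlg (R := R) (inf_le_left : V p.1 ⊓ V p.2 ≤ V p.1) (f p.1)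
      have hm : f' ∈ maximalIdeal R • (⊤ : Submodule R B) := by
        simp only [f', hb, map_add, AlgHom.commutes, map_smul, Algebra.algebraMap_eq_smul_one]
        exact add_mem (Submodule.smul_mem_smul ((IsLocalRing.mem_maximalIdeal r).2 hru) trivial)
          (Submodule.smul_mem_smul E.mem trivial)
      obtain ⟨g, hg⟩ := ((hfu p.1).map (resAlg (R := R) (inf_le_left : V p.1 ⊓ V p.2 ≤ V p.1))).exists_left_inv
      have h4 : x = f' * (g * x) := by rw [← mul_assoc, mul_comm f', hg, one_mul]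
      rw [h4]
      have hmul : (LinearMap.mulRight R (g * x)) f' ∈ maximalIdeal R • (⊤ : Submodule R B) :=
        Submodule.mem_comap.1 (red_le_comap (LinearMap.mulRight R (g * x)) hm)
      exact hmul
  rw [← (LinearMap.range (d0 (R := R) V)).mkQ.map_zero]
  have key : TensorProduct.lid R _ ((evalAlg σ hσ U hU).toLinearMap.rTensor (H1 (R := R) V)
      ((LinearMap.range (d0 (R := R) V)).mkQ.lTensor Γ(X, U) t)) = (LinearMap.range (d0 (R := R) V)).mkQ w :=
    (lid_rTensor_lTensor _ _ t).trans (by rw [hw0])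
  rw [key, map_zero, Submodule.mkQ_apply, Submodule.Quotient.mk_eq_zero]
  exact hwr

end CubeLib
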