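import Groth.Agent.CubeLib.Slice

/-!
Trivialisations extend along small extensions when they do along both slices.
-/

set_option autoImplicit false
set_option maxRecDepth 8000
set_option maxHeartbeats 1000000

noncomputable section

universe u

open CategoryTheory CategoryTheory.Limits AlgebraicGeometry TopologicalSpace Opposite
open scoped TensorProduct
open AmpleLib (GenOn res)
open KFlatLib (pb puSecLE)
open IsLocalRing (maximalIdeal)

namespace CubeLib

variable {R : Type u} [CommRing R] [IsLocalRing R]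

attribute [local instance] algSec

theorem isSeparated_over {X : Scheme.{u}} [X.Over (Spec (CommRingCat.of R))]
    [IsSeparated (X ↘ Spec (CommRingCat.of R))] : X.IsSeparated := ⟨by
  rw [← terminal.comp_from (X ↘ Spec (CommRingCat.of R))]
  infer_instance⟩

/-- The inclusion of the residue field as the socle. -/
def Soc.socMap (E : Soc R) : (R ⧸ maximalIdeal R) →ₗ[R] R :=
  E.θ R ∘ₗ (Submodule.quotEquivOfEq (maximalIdeal R) (maximalIdeal R • (⊤ : Submodule R R))
    (by rw [smul_eq_mul, Ideal.mul_top])).toLinearMap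

theorem Soc.socMap_injective (E : Soc R) : Function.Injective E.socMap :=
  E.θ_injective.comp (Submodule.quotEquivOfEq _ _ _).injective

theorem evalAlg_rid {X : Scheme.{u}} [X.Over (Spec (CommRingCat.of R))] {U : X.Opens} (g : Γ(X, U) →ₐ[R] R)
    {M : Type u} [AddCommGroup M] [Module R M] (F : M →ₗ[R] R) (t : Γ(X, U) ⊗[R] M) :
    g (TensorProduct.rid R Γ(X, U) (F.lTensor Γ(X, U) t)) =
      F (TensorProduct.lid R M (g.toLinearMap.rTensor M t)) := by
  induction t using TensorProduct.induction_on with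
  | zero => simp only [map_zero]
  | add a b ha hb => simp only [map_add, ha, hb]
  | tmul a m =>
    rw [LinearMap.lTensor_tmul, TensorProduct.rid_tmul, map_smul, LinearMap.rTensor_tmul, TensorProduct.lid_tmul,
      map_smul, smul_eq_mul, smul_eq_mul, mul_comm]
    rfl

theorem res_rid {X : Scheme.{u}} [X.Over (Spec (CommRingCat.of R))] {U U' : X.Opens} (hU : U' ≤ U)
    {M : Type u} [AddCommGroup M] [Module R M] (F : M →ₗ[R] R) (t : Γ(X, U) ⊗[R] M) :
    resAlg (R := R) hU (TensorProduct.rid R Γ(X, U) (F.lTensor Γ(X, U) t)) =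
      TensorProduct.rid R Γ(X, U') (F.lTensor Γ(X, U') ((resAlg (R := R) hU).toLinearMap.rTensor M t)) := by
  induction t using TensorProduct.induction_on with
  | zero => simp only [map_zero]
  | add a b ha hb => simp only [map_add, ha, hb]
  | tmul a m =>
    rw [LinearMap.lTensor_tmul, TensorProduct.rid_tmul, map_smul, LinearMap.rTensor_tmul, LinearMap.lTensor_tmul,
      TensorProduct.rid_tmul]
    rfl

variable {X Y P : Scheme.{u}} [X.Over (Spec (CommRingCat.of R))] [Y.Over (Spec (CommRingCat.of R))]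
  [P.Over (Spec (CommRingCat.of R))]
  [Flat (X ↘ Spec (CommRingCat.of R))] [IsSeparated (X ↘ Spec (CommRingCat.of R))]
  [Flat (Y ↘ Spec (CommRingCat.of R))] [IsSeparated (Y ↘ Spec (CommRingCat.of R))]
  [QuasiCompact (Y ↘ Spec (CommRingCat.of R))]

/-- **Deformation step**: a line bundle on a product trivial modulo a socle element and on both slices is
trivial. -/
theorem trivial_of_smallExt (E : Soc R) {pX : P ⟶ X} {pY : P ⟶ Y} (D : Prod (R := R) pX pY)
    (hX : UnivO (X ↘ Spec (CommRingCat.of R))) (hY : UnivO (Y ↘ Spec (CommRingCat.of R)))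
    {L : P.Modules} (hL : PicF.IsInvertible L)
    (σ : Spec (CommRingCat.of R) ⟶ X) (hσ : σ ≫ X ↘ Spec (CommRingCat.of R) = 𝟙 _)
    (u : X ⟶ P) (hu : u ≫ pX = 𝟙 X)
    (v : Y ⟶ P) (hv₁ : v ≫ pX = Y ↘ Spec (CommRingCat.of R) ≫ σ) (hv₂ : v ≫ pY = 𝟙 Y)
    (h₁ : Nonempty ((Scheme.Modules.pullback u).obj L ≅ Coh.structureModule X))
    (h₂ : Nonempty ((Scheme.Modules.pullback v).obj L ≅ Coh.structureModule Y))
    {Z : Scheme.{u}} {i : Z ⟶ P} (T : Thick E.ε i)
    (h₃ : Nonempty ((Scheme.Modules.pullback i).obj L ≅ Coh.structureModule Z)) :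
    Nonempty (L ≅ Coh.structureModule P) := by
  classical
  have : X.IsSeparated := isSeparated_over (R := R)
  have : Y.IsSeparated := isSeparated_over (R := R)
  have : CompactSpace Y := QuasiCompact.compactSpace_of_compactSpace (Y ↘ Spec (CommRingCat.of R))
  have : Coh.IsQCoh L := TwistLib.isQCoh_of_isInvertible hL
  obtain ⟨z, hz⟩ := exists_genOn_top h₃
  choose V₀ hV₀ hyV₀ using fun y : Y => QCohLib.exists_affine_nhd y
  obtain ⟨s, hs⟩ := isCompact_univ.elim_finite_subcover (fun y : Y => (V₀ y : Set Y)) (fun y => (V₀ y).2)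
    fun y _ => Set.mem_iUnion.2 ⟨y, hyV₀ y⟩
  let J : Type u := {y : Y // y ∈ s}
  let V : J → Y.Opens := fun j => V₀ j.1
  have hV : ∀ j, IsAffineOpen (V j) := fun j => hV₀ j.1
  have hcov : ∀ y : Y, ∃ j, y ∈ V j := fun y => by
    obtain ⟨j, hj, hyj⟩ := Set.mem_iUnion₂.1 (hs (Set.mem_univ y))
    exact ⟨⟨j, hj⟩, hyj⟩
  choose U hU hxU using fun x : X => QCohLib.exists_affine_nhd x
  choose h hh using fun x : X => exists_hasCls (E := E) (D := D) (V := V) T hL hz hV (hU x)
  have hover : ∀ a b : X, (resAlg (inf_le_left : U a ⊓ U b ≤ U a)).toLinearMap.rTensor (H1 (R := R) V) (h a) =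
      (resAlg (inf_le_right : U a ⊓ U b ≤ U b)).toLinearMap.rTensor (H1 (R := R) V) (h b) := fun a b =>
    HasCls.unique T hL hz hV ((hU a).inf (hU b)) ((hh a).res inf_le_left) ((hh b).res inf_le_right)
  let x₀ : X := σ (IsLocalRing.closedPoint R)
  have hσU : (⊤ : (Spec (CommRingCat.of R)).Opens) ≤ σ ⁻¹ᵁ U x₀ := fun p _ =>
    (IsLocalRing.specializes_closedPoint p).mem_open (σ ⁻¹ᵁ U x₀).2 (hxU x₀)
  have h0 := slice_cls E D σ hσ v hv₁ hv₂ T hL hz hY hcov hV h₂ hσU (hh x₀)
  have hzero : ∀ x, h x = 0 := fun x => by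
    refine eq_zero_of_functionals (fun a ha m => ?_) _ fun φ => ?_
    · obtain ⟨m, rfl⟩ := Submodule.Quotient.mk_surjective _ m
      rw [← Submodule.Quotient.mk_smul, show a • m = 0 from funext fun p => smul_red_eq_zero ha (m p),
        Submodule.Quotient.mk_zero]
    let F : H1 (R := R) V →ₗ[R] R := E.socMap ∘ₗ φ
    let y : ∀ a : X, Γ(X, U a) := fun a => TensorProduct.rid R _ (F.lTensor _ (h a))
    obtain ⟨g, hg, -⟩ := TopCat.Sheaf.existsUnique_gluing' X.sheaf U ⊤ (fun a => homOfLE le_top)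
      (fun a _ => Opens.mem_iSup.2 ⟨a, hxU a⟩) y fun a b => by
        change resAlg (R := R) (inf_le_left : U a ⊓ U b ≤ U a) (y a) = resAlg (R := R) (inf_le_right : U a ⊓ U b ≤ U b) (y b)
        rw [res_rid, res_rid, hover]
    have := hX.appTop (⊤ : (Spec (CommRingCat.of R)).Opens)
    obtain ⟨r', hr'⟩ := (ConcreteCategory.bijective_of_isIso ((X ↘ Spec (CommRingCat.of R)).app ⊤)).2 g
    obtain ⟨r, rfl⟩ := (ConcreteCategory.bijective_of_isIso (Scheme.ΓSpecIso (CommRingCat.of R)).inv).2 r'
    have hy : ∀ a, y a = algebraMap R Γ(X, U a) r := fun a => by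
      rw [← show X.presheaf.map (homOfLE (le_top : U a ≤ ⊤)).op g = y a from hg a, ← hr']
      refine Eq.trans ?_ ((resAlg (R := R) (le_top : U a ≤ ⊤)).commutes r)
      rw [Scheme.Hom.app_eq_appLE]
      rfl
    have hr : r = 0 := by
      have e1 := congrArg (evalAlg σ hσ (U x₀) hσU) (hy x₀)
      rw [AlgHom.commutes, evalAlg_rid, h0, map_zero] at e1
      exact e1.symm
    have : Module.Flat R Γ(X, U x) := flat_sec (hU x)
    apply Module.Flat.lTensor_preserves_injective_linearMap (M := Γ(X, U x)) E.socMap E.socMap_injective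
    apply (TensorProduct.rid R Γ(X, U x)).injective
    rw [map_zero, map_zero, ← LinearMap.lTensor_comp_apply]
    exact (hy x).trans (by rw [hr, map_zero])
  choose e he using fun x : X => exists_gen_of_cls_zero (E := E) (D := D) (V := V) T hL hz hV (hU x) hcov
    (hzero x ▸ hh x)
  have hpX : UnivO pX := hY.of_isPullback D.H.flip
  exact trivial_of_local_of_section pX hpX u hu h₁ U (fun x => ⟨x, hxU x⟩) e he

end CubeLib
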