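import Groth.Agent.CubeLib.Clopen

/-!
The cube theorem for a triple product.
-/

set_option autoImplicit false
set_option maxRecDepth 8000
set_option maxHeartbeats 1000000

noncomputable section

universe u

open CategoryTheory CategoryTheory.Limits AlgebraicGeometry TopologicalSpace Opposite

namespace CubeLib

variable {S X Y Z : Scheme.{u}}

theorem exists_clopen_triple (pX : X ⟶ S) (pY : Y ⟶ S) (pZ : Z ⟶ S)
    [Flat pX] [IsProper pX] [LocallyOfFinitePresentation pX] [GeometricallyIntegral pX]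
    [Flat pY] [IsProper pY] [LocallyOfFinitePresentation pY] [GeometricallyIntegral pY]
    (x : S ⟶ X) (hx : x ≫ pX = 𝟙 S) (y : S ⟶ Y) (hy : y ≫ pY = 𝟙 S)
    {L : (pullback (pullback.fst pX pY ≫ pX) pZ).Modules} (hL : PicF.IsInvertible L)
    {A B : Scheme.{u}} (m₁ : A ⟶ pullback (pullback.fst pX pY ≫ pX) pZ)
    (m₂ : B ⟶ pullback (pullback.fst pX pY ≫ pX) pZ)
    (h₁ : Nonempty ((Scheme.Modules.pullback m₁).obj L ≅ Coh.structureModule A))
    (h₂ : Nonempty ((Scheme.Modules.pullback m₂).obj L ≅ Coh.structureModule B))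
    (c₁ : pullback pY pZ ⟶ A)
    (e₁a : c₁ ≫ m₁ ≫ pullback.fst _ _ ≫ pullback.fst pX pY = pullback.fst pY pZ ≫ pY ≫ x)
    (e₁b : c₁ ≫ m₁ ≫ pullback.fst _ _ ≫ pullback.snd pX pY = pullback.fst pY pZ)
    (e₁c : c₁ ≫ m₁ ≫ pullback.snd _ _ = pullback.snd pY pZ)
    (c₂ : pullback pX pZ ⟶ B)
    (e₂a : c₂ ≫ m₂ ≫ pullback.fst _ _ ≫ pullback.fst pX pY = pullback.fst pX pZ)
    (e₂b : c₂ ≫ m₂ ≫ pullback.fst _ _ ≫ pullback.snd pX pY = pullback.fst pX pZ ≫ pX ≫ y)
    (e₂c : c₂ ≫ m₂ ≫ pullback.snd _ _ = pullback.snd pX pZ)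
    (z : Z) (h₃ : Nonempty ((Scheme.Modules.pullback ((pullback.snd (pullback.fst pX pY ≫ pX) pZ).fiberι z)).obj L ≅
      Coh.structureModule _)) :
    ∃ W : Z.Opens, IsClosed (W : Set Z) ∧ z ∈ W ∧
      Nonempty ((Scheme.Modules.pullback ((pullback.snd (pullback.fst pX pY ≫ pX) pZ) ⁻¹ᵁ W).ι).obj L ≅
        Coh.structureModule _) := by
  let f := pullback.snd pX pZ
  let g := pullback.snd pY pZ
  have : Flat f := MorphismProperty.pullback_snd _ _ ‹_›
  have : Flat g := MorphismProperty.pullback_snd _ _ ‹_›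
  have : IsProper f := MorphismProperty.pullback_snd _ _ ‹_›
  have : IsProper g := MorphismProperty.pullback_snd _ _ ‹_›
  have : LocallyOfFinitePresentation f := MorphismProperty.pullback_snd _ _ ‹_›
  have : LocallyOfFinitePresentation g := MorphismProperty.pullback_snd _ _ ‹_›
  have : GeometricallyIntegral f := inferInstance
  have : GeometricallyIntegral g := inferInstance
  have H := isPullback_prod pX pY pZ (by
    rw [Category.assoc, Category.assoc, pullback.condition, pullback.condition, ← Category.assoc, ← Category.assoc]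
    exact congrArg (· ≫ pZ) pullback.condition)
  let Φ := H.isoPullback
  have hΦ1 : Φ.hom ≫ pullback.fst _ _ = _ := H.isoPullback_hom_fst
  have hΦ2 : Φ.hom ≫ pullback.snd _ _ = pullback.fst f g ≫ f := H.isoPullback_hom_snd
  let σ : Z ⟶ pullback pX pZ :=
    pullback.lift (pZ ≫ x) (𝟙 Z) (by rw [Category.assoc, hx, Category.comp_id, Category.id_comp])
  let τ : Z ⟶ pullback pY pZ :=
    pullback.lift (pZ ≫ y) (𝟙 Z) (by rw [Category.assoc, hy, Category.comp_id, Category.id_comp])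
  have hσ : σ ≫ f = 𝟙 Z := pullback.lift_snd _ _ _
  have hτ : τ ≫ g = 𝟙 Z := pullback.lift_snd _ _ _
  let u : pullback pX pZ ⟶ pullback f g :=
    pullback.lift (𝟙 _) (f ≫ τ) (by rw [Category.assoc, hτ, Category.comp_id, Category.id_comp])
  let v : pullback pY pZ ⟶ pullback f g :=
    pullback.lift (g ≫ σ) (𝟙 _) (by rw [Category.assoc, hσ, Category.comp_id, Category.id_comp])
  have eu : u ≫ Φ.hom = c₂ ≫ m₂ := by
    apply pullback.hom_ext
    · apply pullback.hom_ext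
      · simp only [Category.assoc]
        rw [e₂a, ← Category.assoc Φ.hom, hΦ1, pullback.lift_fst, ← Category.assoc, pullback.lift_fst, Category.id_comp]
      · simp only [Category.assoc]
        rw [e₂b, ← Category.assoc Φ.hom, hΦ1, pullback.lift_snd, ← Category.assoc, pullback.lift_snd, Category.assoc,
          pullback.lift_fst, ← Category.assoc, ← Category.assoc, pullback.condition]
    · simp only [Category.assoc]
      rw [e₂c, hΦ2, ← Category.assoc, pullback.lift_fst, Category.id_comp]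
  have ev : v ≫ Φ.hom = c₁ ≫ m₁ := by
    apply pullback.hom_ext
    · apply pullback.hom_ext
      · simp only [Category.assoc]
        rw [e₁a, ← Category.assoc Φ.hom, hΦ1, pullback.lift_fst, ← Category.assoc, pullback.lift_fst, Category.assoc,
          pullback.lift_fst, ← Category.assoc, ← Category.assoc, pullback.condition]
      · simp only [Category.assoc]
        rw [e₁b, ← Category.assoc Φ.hom, hΦ1, pullback.lift_snd, ← Category.assoc, pullback.lift_snd, Category.id_comp]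
    · simp only [Category.assoc]
      rw [e₁c, hΦ2, ← Category.assoc, pullback.lift_fst, Category.assoc, hσ, Category.comp_id]
  have Hid : IsPullback Φ.hom (pullback.fst f g ≫ f) (pullback.snd (pullback.fst pX pY ≫ pX) pZ) (𝟙 Z) :=
    IsPullback.of_horiz_isIso ⟨by rw [hΦ2, Category.comp_id]⟩
  obtain ⟨W, hW, hzW, hW'⟩ := exists_clopen f g σ hσ τ hτ (AmpleDevLib.isInvertible_pb Φ.hom hL) u
    (pullback.lift_fst _ _ _) (pullback.lift_snd _ _ _) v (pullback.lift_fst _ _ _) (pullback.lift_snd _ _ _)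
    (trivial_of_comp_eq eu h₂) (trivial_of_comp_eq ev h₁) z (fibre_trivial_of_isPullback Hid z h₃)
  refine ⟨W, hW, hzW, ?_⟩
  let q := pullback.snd (pullback.fst pX pY ≫ pX) pZ
  have hr : Set.range ((q ⁻¹ᵁ W).ι ≫ Φ.inv) ⊆ Set.range ((pullback.fst f g ≫ f) ⁻¹ᵁ W).ι := by
    rw [Scheme.Opens.range_ι]
    rintro _ ⟨a, rfl⟩
    show (pullback.fst f g ≫ f) (((q ⁻¹ᵁ W).ι ≫ Φ.inv) a) ∈ W
    rw [← Scheme.Hom.comp_apply, ← hΦ2, Category.assoc, Iso.inv_hom_id_assoc]
    exact a.2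
  have hl := IsOpenImmersion.lift_fac ((pullback.fst f g ≫ f) ⁻¹ᵁ W).ι ((q ⁻¹ᵁ W).ι ≫ Φ.inv) hr
  have e : (q ⁻¹ᵁ W).ι = IsOpenImmersion.lift ((pullback.fst f g ≫ f) ⁻¹ᵁ W).ι ((q ⁻¹ᵁ W).ι ≫ Φ.inv) hr ≫
      ((pullback.fst f g ≫ f) ⁻¹ᵁ W).ι ≫ Φ.hom := by
    rw [← Category.assoc, hl, Category.assoc, Iso.inv_hom_id, Category.comp_id]
  obtain ⟨w⟩ := hW'
  obtain ⟨k⟩ := trivial_pullback
    (g := IsOpenImmersion.lift ((pullback.fst f g ≫ f) ⁻¹ᵁ W).ι ((q ⁻¹ᵁ W).ι ≫ Φ.inv) hr)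
    (L := (Scheme.Modules.pullback (((pullback.fst f g ≫ f) ⁻¹ᵁ W).ι ≫ Φ.hom)).obj L)
    ⟨((Scheme.Modules.pullbackComp _ Φ.hom).app L).symm ≪≫ w⟩
  exact ⟨(Scheme.Modules.pullbackCongr e).app L ≪≫ ((Scheme.Modules.pullbackComp _ _).app L).symm ≪≫ k⟩

end CubeLib
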