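import Groth.Agent.CohCmpLib.FamilyPic
import Groth.Agent.CohCmpLib.NearFibre
import Groth.Agent.CohCmpLib.StratRep

/-!
Morphisms with `O = f_* O` universally.
-/

set_option autoImplicit false
set_option maxRecDepth 8000

noncomputable section

universe u

open CategoryTheory CategoryTheory.Limits AlgebraicGeometry TopologicalSpace Opposite

namespace CubeLib

variable {X Y S T : Scheme.{u}}

/-- `O = f_* O` after every base change. -/
def UnivO (f : X ⟶ S) : Prop :=
  ∀ (X' T : Scheme.{u}) (g' : X' ⟶ X) (f' : X' ⟶ T) (t : T ⟶ S), IsPullback g' f' f t →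
    ∀ U : T.Opens, IsIso (f'.app U)

theorem univO_of_app {f : X ⟶ S}
    (h : ∀ (T : Scheme.{u}) (t : T ⟶ S) (U : T.Opens), IsIso ((pullback.snd f t).app U)) : UnivO f := by
  intro X' T g' f' t H U
  have e : H.isoPullback.hom ≫ pullback.snd f t = f' := H.isoPullback_hom_snd
  have h1 := h T t U
  have key : IsIso ((H.isoPullback.hom ≫ pullback.snd f t).app U) := by
    rw [Scheme.Hom.comp_app]
    exact IsIso.comp_isIso' h1 (Scheme.Hom.isIso_app _ _ (by rw [Scheme.Hom.opensRange_of_isIso]; exact le_top))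
  rwa [e] at key

theorem UnivO.of_isPullback {f : X ⟶ S} (hf : UnivO f) {X' : Scheme.{u}} {g' : X' ⟶ X} {f' : X' ⟶ T} {t : T ⟶ S}
    (H : IsPullback g' f' f t) : UnivO f' :=
  fun X'' T' g'' f'' t' H' U => hf X'' T' (g'' ≫ g') f'' (t' ≫ t) (H'.paste_horiz H) U

theorem UnivO.comp {f : X ⟶ Y} {g : Y ⟶ S} (hf : UnivO f) (hg : UnivO g) : UnivO (f ≫ g) := by
  intro X' T g' f' t H U
  let b := pullback.snd g t
  let c := pullback.fst g t
  let a : X' ⟶ pullback g t := pullback.lift (g' ≫ f) f' (by rw [Category.assoc]; exact H.w)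
  have ha : a ≫ b = f' := pullback.lift_snd _ _ _
  have hac : g' ≫ f = a ≫ c := (pullback.lift_fst _ _ _).symm
  have H1 : IsPullback c b g t := IsPullback.of_hasPullback g t
  have H2 : IsPullback g' a f c := IsPullback.of_bot (by rw [ha]; exact H) hac H1
  have h2 := hf _ _ _ _ _ H2 (b ⁻¹ᵁ U)
  have h1 := hg _ _ _ _ _ H1 U
  have key : IsIso ((a ≫ b).app U) := by
    rw [Scheme.Hom.comp_app]; exact IsIso.comp_isIso' h1 h2
  rwa [ha] at key

theorem UnivO.appTop {f : X ⟶ S} (hf : UnivO f) (U : S.Opens) : IsIso (f.app U) :=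
  hf X S (𝟙 X) f (𝟙 S) (IsPullback.of_horiz_isIso ⟨by simp⟩) U

theorem finrank_fibre {f : X ⟶ S} (hf : UnivO f) (y : S) :
    Module.finrank (S.residueField y) Γ(f.fiber y, ⊤) = 1 := by
  have hb : IsIso ((f.fiberToSpecResidueField y).app ⊤) :=
    hf _ _ _ _ _ (IsPullback.of_hasPullback f (S.fromSpecResidueField y)) ⊤
  let K : Type u := S.residueField y
  let φ : K →ₐ[K] Γ(f.fiber y, ⊤) := Algebra.ofId K _
  have hb' : Function.Bijective φ :=
    ConcreteCategory.bijective_of_isIso
      ((Scheme.ΓSpecIso (S.residueField y)).inv ≫ (f.fiberToSpecResidueField y).app ⊤)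
  exact ((AlgEquiv.ofBijective φ hb').toLinearEquiv.finrank_eq).symm.trans (Module.finrank_self K)

theorem isIso_unitToPush {f : X ⟶ S} (hf : UnivO f) : IsIso (ClSub.unitToPush f) :=
  KFlatLib.isIso_of_stalks _ fun y => by
    refine (ConcreteCategory.isIso_iff_bijective _).mpr ⟨fun a b hab => ?_, fun a => ?_⟩
    · obtain ⟨U, hU, r, rfl⟩ := ProjFormLib.exists_ger _ y a
      obtain ⟨U', hU', r', rfl⟩ := ProjFormLib.exists_ger _ y b
      rw [ProjFormLib.ger_map, ProjFormLib.ger_map] at hab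
      obtain ⟨V, hV, i, i', h⟩ := ((Scheme.Modules.pushforward f).obj (Coh.structureModule X)).presheaf.germ_eq y
        hU hU' _ _ hab
      rw [← ProjFormLib.ger_res _ i.le y hV r, ← ProjFormLib.ger_res _ i'.le y hV r']
      have := hf.appTop V
      refine congrArg _ ((ConcreteCategory.bijective_of_isIso (f.app V)).1 ?_)
      exact (QCohLib.app_map (ClSub.unitToPush f) i r).trans (h.trans (QCohLib.app_map (ClSub.unitToPush f) i' r').symm)
    · obtain ⟨U, hU, r, rfl⟩ := ProjFormLib.exists_ger _ y a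
      have := hf.appTop U
      obtain ⟨r₀, h⟩ := (ConcreteCategory.bijective_of_isIso (f.app U)).2 r
      exact ⟨ProjFormLib.ger (Coh.structureModule S) y hU r₀,
        (ProjFormLib.ger_map (ClSub.unitToPush f) y hU r₀).trans (congrArg _ h)⟩

/-- A trivial family satisfies the stratum condition of rank one. -/
theorem stratSq_of_trivial {π : X ⟶ S} (hπ : UnivO π) {XT : Scheme.{u}} {gT : XT ⟶ X} {fT : XT ⟶ T} {t : T ⟶ S}
    (H : IsPullback gT fT π t) {L : X.Modules}
    (h : Nonempty ((Scheme.Modules.pullback gT).obj L ≅ Coh.structureModule XT)) :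
    CohCmpLib.StratSq L 1 fT gT := by
  obtain ⟨e⟩ := h
  have hfT := hπ.of_isPullback H
  have := isIso_unitToPush hfT
  refine ⟨?_, fun X'' T' v' f'' u' H' => ?_⟩
  · intro x
    obtain ⟨U, hU, ⟨a⟩⟩ := CohCmpLib.rank_one_structureModule T x
    exact ⟨U, hU, ⟨(Scheme.Modules.restrictFunctor U.ι).mapIso ((asIso (ClSub.unitToPush fT)) ≪≫
      (Scheme.Modules.pushforward fT).mapIso e.symm).symm ≪≫ a⟩⟩
  · have := isIso_unitToPush (hfT.of_isPullback H')
    have e0 := CohCmpLib.bc0_unit H'.w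
    have h2 : IsIso ((Scheme.Modules.pullback u').map (ClSub.unitToPush fT) ≫
        CohBC.bc0 fT u' f'' v' H'.w (Coh.structureModule XT) ≫
        (Scheme.Modules.pushforward f'').map (KFlatLib.pullUnitIso v').hom) := by
      rw [e0]; infer_instance
    have h3 : IsIso (CohBC.bc0 fT u' f'' v' H'.w (Coh.structureModule XT) ≫
        (Scheme.Modules.pushforward f'').map (KFlatLib.pullUnitIso v').hom) :=
      IsIso.of_isIso_comp_left ((Scheme.Modules.pullback u').map (ClSub.unitToPush fT)) _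
    have h4 : IsIso (CohBC.bc0 fT u' f'' v' H'.w (Coh.structureModule XT)) :=
      IsIso.of_isIso_comp_right _ ((Scheme.Modules.pushforward f'').map (KFlatLib.pullUnitIso v').hom)
    have e1 := CohCmpLib.bc0_map H'.w e.inv
    have h5 : IsIso ((Scheme.Modules.pullback u').map ((Scheme.Modules.pushforward fT).map e.inv) ≫
        CohBC.bc0 fT u' f'' v' H'.w ((Scheme.Modules.pullback gT).obj L)) := by
      rw [e1]; infer_instance
    exact IsIso.of_isIso_comp_left ((Scheme.Modules.pullback u').map ((Scheme.Modules.pushforward fT).map e.inv)) _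

/-- Trivial fibres pull back. -/
theorem fibre_trivial_of_isPullback {π : X ⟶ S} {XT : Scheme.{u}} {gT : XT ⟶ X} {fT : XT ⟶ T} {t : T ⟶ S}
    (H : IsPullback gT fT π t) (z : T) {L : X.Modules}
    (h : Nonempty ((Scheme.Modules.pullback (π.fiberι (t z))).obj L ≅ Coh.structureModule (π.fiber (t z)))) :
    Nonempty (CohIII.fiberMod fT ((Scheme.Modules.pullback gT).obj L) z ≅ Coh.structureModule (fT.fiber z)) := by
  obtain ⟨e⟩ := h
  let ρ := fT.fiberToSpecResidueField z ≫ Spec.map (t.residueFieldMap z)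
  have w : (fT.fiberι z ≫ gT) ≫ π = ρ ≫ S.fromSpecResidueField (t z) := by
    rw [Category.assoc, H.w, ← Category.assoc, fT.fiber_fac, Category.assoc, Category.assoc,
      Scheme.Hom.SpecMap_residueFieldMap_fromSpecResidueField]
  let l : fT.fiber z ⟶ π.fiber (t z) := pullback.lift _ _ w
  have hl : l ≫ π.fiberι (t z) = fT.fiberι z ≫ gT := pullback.lift_fst _ _ _
  exact ⟨(Scheme.Modules.pullbackComp (fT.fiberι z) gT).app L ≪≫ (Scheme.Modules.pullbackCongr hl.symm).app L ≪≫
    ((Scheme.Modules.pullbackComp l (π.fiberι (t z))).app L).symm ≪≫ (Scheme.Modules.pullback l).mapIso e ≪≫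
    KFlatLib.pullUnitIso l⟩

theorem trivial_pullback {g : Y ⟶ X} {L : X.Modules} (h : Nonempty (L ≅ Coh.structureModule X)) :
    Nonempty ((Scheme.Modules.pullback g).obj L ≅ Coh.structureModule Y) :=
  ⟨(Scheme.Modules.pullback g).mapIso h.some ≪≫ KFlatLib.pullUnitIso g⟩

theorem trivial_of_comp_eq {Z : Scheme.{u}} {a : T ⟶ Y} {b : Y ⟶ X} {c : T ⟶ Z} {d : Z ⟶ X} (e : a ≫ b = c ≫ d)
    {L : X.Modules} (h : Nonempty ((Scheme.Modules.pullback d).obj L ≅ Coh.structureModule Z)) :
    Nonempty ((Scheme.Modules.pullback a).obj ((Scheme.Modules.pullback b).obj L) ≅ Coh.structureModule T) := by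
  obtain ⟨s⟩ := trivial_pullback (g := c) h
  exact ⟨(Scheme.Modules.pullbackComp a b).app L ≪≫ (Scheme.Modules.pullbackCongr e).app L ≪≫
    ((Scheme.Modules.pullbackComp c d).app L).symm ≪≫ s⟩

end CubeLib
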